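import Mathlib
import Cfsg.Agent.Lib.RankOnePush.Action
/-!
The structure of `D` given by the amalgam argument.
-/

set_option autoImplicit false
set_option linter.unusedSectionVars false

namespace Cfsg.Agent.Lib.RankOnePush

open Subgroup
open scoped commutatorElement

variable {Ω : Type*} [Group Ω] [Finite Ω] {p q : ℕ} {Gs S D V : Subgroup Ω}

/-- Powers of a product whose commutator commutes with both factors. -/
theorem mul_pow_of_comm {G : Type*} [Group G] {a b : G} (ha : Commute ⁅b, a⁆ a)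
    (hb : Commute ⁅b, a⁆ b) (k : ℕ) : (a * b) ^ k = ⁅b, a⁆ ^ k.choose 2 * (a ^ k * b ^ k) := by
  set c := ⁅b, a⁆ with hc
  have h0 : b * a = c * (a * b) := by rw [hc, commutatorElement_def]; group
  have hk : ∀ k : ℕ, b ^ k * a = c ^ k * (a * b ^ k) := by
    intro k
    induction k with
    | zero => simp
    | succ k ih =>
      calc b ^ (k + 1) * a = b ^ k * (b * a) := by rw [pow_succ, mul_assoc]
        _ = (b ^ k * c) * (a * b) := by rw [h0]; group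
        _ = (c * b ^ k) * (a * b) := by rw [(hb.pow_right k).eq]
        _ = c * (b ^ k * a) * b := by group
        _ = c * (c ^ k * (a * b ^ k)) * b := by rw [ih]
        _ = c ^ (k + 1) * (a * b ^ (k + 1)) := by rw [pow_succ', pow_succ]; group
  induction k with
  | zero => simp
  | succ k ih =>
    calc (a * b) ^ (k + 1) = c ^ k.choose 2 * a ^ k * (b ^ k * a) * b := by rw [pow_succ, ih]; group
      _ = c ^ k.choose 2 * (a ^ k * c ^ k) * (a * b ^ k) * b := by rw [hk]; group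
      _ = c ^ k.choose 2 * (c ^ k * a ^ k) * (a * b ^ k) * b := by rw [((ha.pow_pow k k)).symm.eq]
      _ = (c ^ k.choose 2 * c ^ k) * ((a ^ k * a) * (b ^ k * b)) := by group
      _ = _ := by
        rw [← pow_add, ← pow_succ, ← pow_succ, Nat.choose_succ_succ', Nat.choose_one_right, add_comm]

/-- What the amalgam argument says about `D`. -/
structure Shape (p q : ℕ) (Gs S D V U Q X : Subgroup Ω) : Prop where
  normU : ∀ g ∈ Gs, cj g U = U
  hVU : V ≤ U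
  hUD : U ≤ D
  commU : ∀ u ∈ U, ∀ d ∈ D, ⁅u, d⁆ ∈ cenL Gs V
  powU : p ≠ 2 → ∀ u ∈ U, u ^ p = 1
  hXS : X ≤ S
  hXD : X ⊔ D = S
  powX : ∀ t ∈ X, t ^ p = 1
  commX : ∀ t ∈ X, ∀ t' ∈ X, t * t' = t' * t
  hQD : Q ≤ D
  hVQ : V ≤ Q
  idxQ : Q.relIndex D ≤ q
  hXQ : ∀ t ∈ X, ∀ u ∈ Q, ⁅t, u⁆ ∈ V ⊓ centralizer (S : Set Ω)
  hXU : ∀ t ∈ X, ∀ u ∈ D, ⁅t, u⁆ ∈ U ⊓ Q
  alt : (U = V ∧ Q = D) ∨ (p ≠ 2 ∧ ¬ ∀ g ∈ Gs, ∃ t ∈ S, ∀ u ∈ U, ⁅g * t⁻¹, u⁆ ∈ V)

theorem Amalgam.exists_shape_one (A : Amalgam p q Gs S D V 1) (h : ∃ r, Crit Gs S D V 1 r) :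
    ∃ U Q X : Subgroup Ω, Shape p q Gs S D V U Q X := by
  obtain ⟨r, hr, hrS⟩ := A.exists_normal_crit le_rfl h
  obtain ⟨g, hg, x, hx, h0⟩ := near_first hr.1
  set h' := (g * x)⁻¹ * r
  have hh' : h' ∈ Gs := h0
  have hT : cj (r * h'⁻¹) S = cj g S := by
    rw [show r * h'⁻¹ = g * x by simp only [h']; group, ← cj_cj, cj_eq_of_mem hx]
  obtain ⟨hcov, hint⟩ := A.crit_cover hr le_rfl (one_mem Gs) (by rwa [cj_one])
  rw [cj_one] at hcov hint
  have hrg : cj r V ≤ cj g S := by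
    rw [← hT, ← cj_cj]
    refine cj_mono ?_
    rw [← A.loc.normV _ (Gs.inv_mem hh')]
    exact cj_mono (A.loc.hVD.trans A.loc.hDS)
  obtain ⟨hcov', hint'⟩ := A.crit_cover hr le_rfl hg hrg
  have hgS : cj g S = S := hcov'.symm.trans hcov
  have hgZ : cj g (V ⊓ centralizer (S : Set Ω)) = V ⊓ centralizer (S : Set Ω) :=
    hint'.symm.trans hint
  have hle : cj r⁻¹ V ≤ cj h'⁻¹ S := by
    rw [cj_le_iff, inv_inv, cj_cj, hT, hgS]
    exact A.loc.hVD.trans A.loc.hDS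
  have key : ∀ t ∈ cj r V, ∀ u ∈ D, ⁅t, u⁆ ∈ V ⊓ centralizer (S : Set Ω) := by
    intro t ht u hu
    have h1 : r⁻¹ * u * r ∈ cj h'⁻¹ S := by
      have h2 : u ∈ cj (r * h'⁻¹) S := by rw [hT, hgS]; exact A.loc.hDS hu
      rw [← cj_cj] at h2
      exact mem_cj.1 h2
    obtain ⟨h3, -⟩ := A.comm_edge (A.crit_symm hr le_rfl) le_rfl (Gs.inv_mem hh') hle h1 (mem_cj.1 ht)
    have h4 := conj_mem_cj (a := r) h3
    rw [cj_cj, show r * h'⁻¹ = g * x by simp only [h']; group, ← cj_cj,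
      cjZ_of_normalizer A.loc hx, hgZ, show r * ⁅r⁻¹ * u * r, r⁻¹ * t * r⁆ * r⁻¹ = ⁅u, t⁆ by
      simp only [commutatorElement_def]; group] at h4
    rw [← commutatorElement_inv]
    exact inv_mem h4
  refine ⟨V, D, cj r V, A.loc.normV, le_rfl, A.loc.hVD, fun u hu d hd => ?_, fun _ => A.loc.pow, hrS,
    hcov, ?_, ?_, le_rfl, A.loc.hVD, by rw [relIndex_self]; exact A.loc.one_lt.le, key,
    fun t ht u hu => ⟨(key t ht u hu).1, A.loc.hVD (key t ht u hu).1⟩, Or.inl ⟨rfl, rfl⟩⟩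
  · rw [commutatorElement_eq_one_iff_mul_comm.2 (mem_centralizer_iff.1 (A.loc.comm hd) u hu)]
    exact one_mem _
  · rintro _ ⟨v, hv, rfl⟩
    rw [← map_pow, A.loc.pow v hv, map_one]
  · rintro _ ⟨v, hv, rfl⟩ _ ⟨v', hv', rfl⟩
    rw [← map_mul, ← map_mul, mem_centralizer_iff.1 (A.loc.comm (A.loc.hVD hv')) v hv]

set_option maxHeartbeats 1600000 in
theorem Amalgam.exists_shape_two (A : Amalgam p q Gs S D V 2) (hp : p.Prime) (h : ∃ r, Crit Gs S D V 2 r) :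
    ∃ U Q X : Subgroup Ω, Shape p q Gs S D V U Q X := by
  have hp2 := A.not_two h
  obtain ⟨r, w, x, c₁, f⟩ := A.exists_frame h
  set y := x⁻¹
  set N := normalizer (S : Set Ω)
  have hyN : y ∈ N := f.valid'.1
  have hyS : cj y S = S := cj_eq_of_mem hyN
  set C := cenL Gs V
  have hC : ∀ g ∈ Gs, ∀ c ∈ C, g * c = c * g := fun g hg c hc => mem_centralizer_iff.1 hc.2 g hg
  set U := (⨆ g : Gs, cj ((g : Ω) * y) V) ⊔ V with hUdef
  have hgen1 : ∀ g ∈ Gs, cj (g * y) V ≤ D := fun g hg => A.le_D (i := 1) (by omega) (by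
    simpa using near_step hg hyN (near_mem (N := N) (one_mem Gs)))
  have hUD : U ≤ D := sup_le (iSup_le fun g => hgen1 g g.2) A.loc.hVD
  have hgU : ∀ g ∈ Gs, cj (g * y) V ≤ U := fun g hg =>
    (le_iSup (fun g : Gs => cj ((g : Ω) * y) V) ⟨g, hg⟩).trans le_sup_left
  have hUn : ∀ g ∈ Gs, cj g U = U := by
    intro g hg
    refine eq_of_le_of_card_ge ?_ (card_map_of_injective (MulAut.conj g).injective).ge
    rw [hUdef, cj_sup, A.loc.normV g hg]
    refine sup_le_sup_right (map_le_iff_le_comap.2 (iSup_le fun g' => map_le_iff_le_comap.1 ?_)) V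
    show cj g (cj ((g' : Ω) * y) V) ≤ _
    rw [cj_cj, ← mul_assoc]
    exact le_iSup (fun g : Gs => cj ((g : Ω) * y) V) (⟨g, hg⟩ * g')
  let E : Subgroup Ω :=
    { carrier := {u | u ∈ D ∧ u ^ p = 1 ∧ ∀ d ∈ D, ⁅u, d⁆ ∈ C}
      one_mem' := ⟨one_mem _, one_pow _, fun d _ => by rw [commutatorElement_one_left]; exact one_mem _⟩
      mul_mem' := fun {a b} ha hb => by
        have haG := A.loc.hSG (A.loc.hDS ha.1)
        have hbG := A.loc.hSG (A.loc.hDS hb.1)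
        refine ⟨D.mul_mem ha.1 hb.1, ?_, fun d hd => ?_⟩
        · have hc := hb.2.2 a ha.1
          rw [mul_pow_of_comm (hC a haG _ hc).symm (hC b hbG _ hc).symm, ha.2.1, hb.2.1, mul_one, mul_one]
          have hcp : ⁅b, a⁆ ^ p = 1 := A.loc.pow _ hc.1
          obtain ⟨k, hk⟩ : p ∣ p.choose 2 := hp.dvd_choose_self two_ne_zero (by
            have := hp.two_le; omega)
          rw [hk, pow_mul, hcp, one_pow]
        · rw [show ⁅a * b, d⁆ = a * ⁅b, d⁆ * a⁻¹ * ⁅a, d⁆ by simp only [commutatorElement_def]; group,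
            hC a haG _ (hb.2.2 d hd), mul_inv_cancel_right]
          exact mul_mem (hb.2.2 d hd) (ha.2.2 d hd)
      inv_mem' := fun {a} ha => ⟨D.inv_mem ha.1, by rw [inv_pow, ha.2.1, inv_one], fun d hd => by
        have h3 := inv_mem (ha.2.2 d hd)
        rwa [show ⁅a⁻¹, d⁆ = a⁻¹ * ⁅a, d⁆⁻¹ * a by simp only [commutatorElement_def]; group,
          hC a⁻¹ (Gs.inv_mem (A.loc.hSG (A.loc.hDS ha.1))) _ h3, inv_mul_cancel_right]⟩ }
  have hUE : U ≤ E := by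
    refine sup_le (iSup_le fun g => ?_) fun v hv => ⟨A.loc.hVD hv, A.loc.pow v hv, fun d hd => ?_⟩
    · intro u hu
      refine ⟨hgen1 g g.2 hu, ?_, fun d hd => ?_⟩
      · obtain ⟨v, hv, rfl⟩ := hu
        rw [← map_pow, A.loc.pow v hv, map_one]
      · rw [← cj_cj] at hu
        have h1 := f.comm ((g : Ω)⁻¹ * d * g) (A.loc.hDS (mem_cj.1 ((A.loc.normD g g.2).ge hd))) _
          (mem_cj.1 hu)
        have h3 := conj_mem_cj (a := (g : Ω)) h1
        rw [cjC A.loc g.2, show (g : Ω) * ⁅(g : Ω)⁻¹ * d * g, (g : Ω)⁻¹ * u * g⁆ * (g : Ω)⁻¹ = ⁅d, u⁆ by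
          simp only [commutatorElement_def]; group, ← commutatorElement_inv u d] at h3
        exact inv_mem_iff.1 h3
    · rw [commutatorElement_eq_one_iff_mul_comm.2 (mem_centralizer_iff.1 (A.loc.comm hd) v hv)]
      exact one_mem _
  set Y := cj (w * y) V
  have hYU : Y ≤ U := hgU w f.hw
  have hTa : Y ⊔ cj y D = S := by
    have hYS : cj ((w * y)⁻¹ * y)⁻¹ V ≤ S := by
      rw [show ((w * y)⁻¹ * y)⁻¹ = y⁻¹ * (w * y) by group, ← cj_cj, cj_le_iff, inv_inv, hyS]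
      exact (hgen1 w f.hw).trans A.loc.hDS
    obtain ⟨h5, -⟩ := A.crit_cover (A.crit_symm f.crit₂ (by omega)) (by omega) (one_mem Gs)
      (by rw [cj_one]; exact hYS)
    have := congrArg (cj y) h5
    rwa [cj_sup, cj_cj, cj_one, hyS, show y * ((w * y)⁻¹ * y)⁻¹ = w * y by group] at this
  obtain ⟨hcov, -⟩ := A.crit_cover f.crit₁ (by omega) (one_mem Gs) (by rw [cj_one]; exact f.le₁)
  rw [cj_one] at hcov
  set X := cj ((w * x)⁻¹ * c₁) V
  have hXQ : ∀ t ∈ X, ∀ u ∈ D ⊓ cj y D, ⁅t, u⁆ ∈ V ⊓ centralizer (S : Set Ω) :=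
    A.exists_action_two f
  refine ⟨U, D ⊓ cj y D, X, hUn, le_sup_right, hUD, fun u hu => (hUE hu).2.2,
    fun _ u hu => (hUE hu).2.1, f.le₁, hcov, ?_, ?_, inf_le_left, le_inf A.loc.hVD ?_, ?_, hXQ, ?_,
    Or.inr ⟨hp2, ?_⟩⟩
  · rintro _ ⟨v, hv, rfl⟩
    rw [← map_pow, A.loc.pow v hv, map_one]
  · rintro _ ⟨v, hv, rfl⟩ _ ⟨v', hv', rfl⟩
    rw [← map_mul, ← map_mul, mem_centralizer_iff.1 (A.loc.comm (A.loc.hVD hv')) v hv]
  · have h5 : cj y⁻¹ V ≤ D := A.le_D (i := 1) (by omega) (near_of_mem_N (inv_mem hyN))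
    rwa [cj_le_iff, inv_inv] at h5
  · rw [inf_relIndex_left]
    refine (relIndex_le_of_le_right A.loc.hDS index_ne_zero_of_finite).trans_eq ?_
    rw [← hyS, relIndex_cj, A.loc.idxD]
  · intro t ht u hu
    have htS := f.le₁ ht
    have hQ : ⁅t, u⁆ ∈ cj y D := by
      rw [mem_cj, show y⁻¹ * ⁅t, u⁆ * y = ⁅y⁻¹ * t * y, y⁻¹ * u * y⁆ by
        simp only [commutatorElement_def]; group]
      exact A.loc.commS _ (mem_cj.1 (hyS.ge htS)) _ (mem_cj.1 (hyS.ge (A.loc.hDS hu)))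
    refine ⟨?_, A.loc.commS t htS u (A.loc.hDS hu), hQ⟩
    have hYG : Y ≤ cj y Gs := by
      refine (le_sup_left.trans hTa.le).trans ?_
      conv_lhs => rw [← hyS]
      exact cj_mono A.loc.hSG
    obtain ⟨z, hz, e, he, rfl⟩ := exists_mul_of_mem_sup A.loc hYG (hTa.ge (A.loc.hDS hu))
    have heD : e ∈ D := by
      have := D.mul_mem (D.inv_mem (hUD (hYU hz))) hu
      rwa [inv_mul_cancel_left] at this
    rw [show ⁅t, z * e⁆ = ⁅t, z⁆ * (z * ⁅t, e⁆ * z⁻¹) by simp only [commutatorElement_def]; group]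
    refine U.mul_mem ?_ ?_
    · rw [commutatorElement_def]
      exact U.mul_mem ((hUn t (A.loc.hSG htS)).le (conj_mem_cj (hYU hz))) (U.inv_mem (hYU hz))
    · refine (hUn z (A.loc.hSG (A.loc.hDS (hUD (hYU hz))))).le (conj_mem_cj ?_)
      exact le_sup_right (a := ⨆ g : Gs, cj ((g : Ω) * y) V) (hXQ t ht e ⟨heD, he⟩).1
  · intro hall
    obtain ⟨t, ht, htw⟩ := hall w f.hw
    have hYle : Y ≤ cj y D := by
      rintro z hz
      obtain ⟨z', hz', rfl⟩ := hz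
      have htG : y⁻¹ * t * y ∈ Gs := A.loc.hSG ((mem_normalizer_iff''.1 hyN t).1 ht)
      set z₁ := t * (y * z' * y⁻¹) * t⁻¹
      have hz₁ : z₁ ∈ cj y V := by
        rw [mem_cj, show y⁻¹ * z₁ * y = (y⁻¹ * t * y) * z' * (y⁻¹ * t * y)⁻¹ by simp only [z₁]; group]
        exact (A.loc.normV _ htG).le (conj_mem_cj hz')
      have hk := htw z₁ (hgU 1 (one_mem Gs) (by rwa [one_mul]))
      have hkQ : ⁅w * t⁻¹, z₁⁆ ∈ cj y D := by
        have h5 : cj y⁻¹ V ≤ D := A.le_D (i := 1) (by omega) (near_of_mem_N (inv_mem hyN))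
        rw [cj_le_iff, inv_inv] at h5
        exact h5 hk
      have := (cj y D).mul_mem hkQ (cj_mono A.loc.hVD hz₁)
      rwa [show ⁅w * t⁻¹, z₁⁆ * z₁ = (MulAut.conj (w * y)).toMonoidHom z' by
        simp only [z₁, commutatorElement_def, MulEquiv.coe_toMonoidHom, MulAut.conj_apply]; group] at this
    obtain ⟨y₀, hy₀, hy₀D⟩ : ∃ t ∈ S, t ∉ D := SetLike.not_le_iff_exists.1 fun hle => by
      have h1 := A.loc.idxD
      rw [relIndex_eq_one.2 hle] at h1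
      exact A.loc.one_lt.ne h1
    rw [sup_eq_right.2 hYle] at hTa
    have h6 : y * y₀ * y⁻¹ ∈ cj y D := hTa.ge ((mem_normalizer_iff.1 hyN y₀).1 hy₀)
    exact hy₀D (by simpa [mem_cj, mul_assoc] using h6)

theorem exists_shape (hp : p.Prime) (L : Local p q Gs S D V)
    (hinv : ∀ X ≤ S, (∀ g ∈ Gs, cj g X = X) → (∀ x ∈ normalizer (S : Set Ω), cj x X = X) → X = ⊥) :
    ∃ U Q X : Subgroup Ω, Shape p q Gs S D V U Q X := by
  obtain ⟨b, hb, A, h⟩ := exists_crit L hinv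
  rcases Nat.lt_or_ge b 2 with h1 | h2
  · obtain rfl : b = 1 := by omega
    exact A.exists_shape_one h
  · obtain rfl : b = 2 := le_antisymm (A.le_two hb h) h2
    exact A.exists_shape_two hp h

end Cfsg.Agent.Lib.RankOnePush
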