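import Mathlib
import Cfsg.Agent.Lib.RankOnePush.Residual
import Cfsg.Agent.Lib.RankOnePush.Structure
/-!
The part of `D` fixed by the residual, given the shape of `D`.
-/

set_option autoImplicit false
set_option linter.unusedSectionVars false

namespace Cfsg.Agent.Lib.RankOnePush

open Subgroup
open Cfsg.Agent.Lib
open Cfsg.Agent.Lib.SL2 (SLtwo PSLtwo proj upper lower diag weyl)
open scoped commutatorElement

variable {G : Type*} [Group G]

/-- The part of `D` fixed by the residual. -/
abbrev resFix (p : ℕ) (D : Subgroup G) : Subgroup G :=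
  D ⊓ centralizer (Cfsg.pResidual p G : Set G)

theorem mem_resFix {p : ℕ} {D : Subgroup G} {x : G} (hx : x ∈ D)
    (h : ∀ g : G, (orderOf g).Coprime p → g * x = x * g) : x ∈ resFix p D := by
  refine ⟨hx, mem_centralizer_iff.2 fun g hg => ?_⟩
  have hle : Cfsg.pResidual p G ≤ centralizer ({x} : Set G) := by
    rw [Cfsg.pResidual, closure_le]
    exact fun y hy => mem_centralizer_singleton_iff.2 (h y hy)
  exact mem_centralizer_singleton_iff.1 (hle hg)

/-- A commutator is not affected by factors central for both entries. -/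
theorem commutatorElement_mul_central {a b a' b' : G} (h1 : Commute a a') (h0 : Commute a b)
    (h2 : Commute a b') (h3 : Commute a' b) (h4 : Commute a' b') : ⁅a * b, a' * b'⁆ = ⁅b, b'⁆ := by
  have e1 : ⁅a, a' * b'⁆ = 1 := commutatorElement_eq_one_iff_commute.2 (h1.mul_right h2)
  have e2 : ⁅b, a'⁆ = 1 := commutatorElement_eq_one_iff_commute.2 h3.symm
  rw [show ⁅a * b, a' * b'⁆ = a * ⁅b, a' * b'⁆ * a⁻¹ * ⁅a, a' * b'⁆ by
      simp only [commutatorElement_def]; group,
    show ⁅b, a' * b'⁆ = ⁅b, a'⁆ * (a' * ⁅b, b'⁆ * a'⁻¹) by simp only [commutatorElement_def]; group,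
    e1, e2, one_mul, mul_one]
  have c1 : Commute a ⁅b, b'⁆ := by
    rw [commutatorElement_def]; exact ((h0.mul_right h2).mul_right h0.inv_right).mul_right h2.inv_right
  have c2 : Commute a' ⁅b, b'⁆ := by
    rw [commutatorElement_def]; exact ((h3.mul_right h4).mul_right h3.inv_right).mul_right h4.inv_right
  rw [c2.eq, mul_inv_cancel_right, c1.eq, mul_inv_cancel_right]

variable [Finite G] {p : ℕ} [hp : Fact p.Prime] {F : Type} [Field F] [Fintype F] {n : ℕ}
variable {S D V U Q X : Subgroup G} {ψ : G →* PSLtwo F}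

theorem resFix_normal (hD : D.Normal) : (resFix p D).Normal := by
  haveI := hD
  infer_instance

theorem fixG_eq_cenL : cenL (⊤ : Subgroup G) V = fixG V := by
  rw [cenL, fixG, Subgroup.coe_top, centralizer_univ]

theorem Shape.normal (h : Shape p (p ^ n) ⊤ S D V U Q X) : U.Normal :=
  ⟨fun u hu g => (h.normU g (mem_top g)).le (conj_mem_cj hu)⟩

namespace Setup

variable (s : Setup p S D n ψ) (m : SmallModule p S D n V) (h : Shape p (p ^ n) ⊤ S D V U Q X)

include s m h

theorem residual_U {g : G} (hg : g ∈ Cfsg.pResidual p G) : ∀ u ∈ D, ⁅g, u⁆ ∈ U :=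
  s.residual_into h.normal h.hXD (fun t ht u hu => (h.hXU t ht u hu).1) hg

theorem commU' {u d : G} (hu : u ∈ U) (hd : d ∈ D) : ⁅u, d⁆ ∈ fixG V :=
  fixG_eq_cenL (V := V) ▸ h.commU u hu d hd

theorem fixG_le_resFix : fixG V ≤ resFix p D := fun x hx =>
  ⟨m.le hx.1, center_le_centralizer _ hx.2⟩

/-- Derived subgroup of `D` is fixed by the residual. -/
theorem comm_mem_resFix {a b : G} (ha : a ∈ D) (hb : b ∈ D) : ⁅a, b⁆ ∈ resFix p D := by
  haveI := s.normalD
  haveI := m.normal
  have hab : ⁅a, b⁆ ∈ D := D.mul_mem (D.mul_mem (D.mul_mem ha hb) (D.inv_mem ha)) (D.inv_mem hb)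
  refine mem_resFix hab fun g hg => ?_
  have hgL : g ∈ Cfsg.pResidual p G := subset_closure hg
  set C := fixG V
  haveI hC : C.Normal := inferInstance
  let E : Subgroup G :=
    { carrier := {x | x ∈ D ∧ ⁅g, x⁆ ∈ C}
      one_mem' := ⟨one_mem _, by rw [commutatorElement_one_right]; exact one_mem _⟩
      mul_mem' := fun {x y} hx hy => ⟨D.mul_mem hx.1 hy.1, by
        rw [show ⁅g, x * y⁆ = ⁅g, x⁆ * (x * ⁅g, y⁆ * x⁻¹) by simp only [commutatorElement_def]; group]
        exact mul_mem hx.2 (hC.conj_mem _ hy.2 x)⟩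
      inv_mem' := fun {x} hx => ⟨D.inv_mem hx.1, by
        rw [show ⁅g, x⁻¹⁆ = x⁻¹ * ⁅g, x⁆⁻¹ * x⁻¹⁻¹ by simp only [commutatorElement_def]; group]
        exact hC.conj_mem _ (inv_mem hx.2) x⁻¹⟩ }
  refine fix_of_chain (U := E) ((s.vpgroup m).to_le inf_le_left) hg (fun x hx => hx.2)
    (fun c hc => (mem_center_iff.1 hc.2 g)) _ ⟨hab, ?_⟩
  set u := ⁅g, a⁆
  set u' := ⁅g, b⁆
  have hu : u ∈ U := s.residual_U m h hgL a ha
  have hu' : u' ∈ U := s.residual_U m h hgL b hb
  have e : g * ⁅a, b⁆ * g⁻¹ = ⁅u * a, u' * b⁆ := by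
    simp only [u, u', commutatorElement_def]; group
  have hq : ∀ {x y : G}, x ∈ U → y ∈ D → Commute (QuotientGroup.mk' C x) (QuotientGroup.mk' C y) := by
    intro x y hx hy
    rw [← commutatorElement_eq_one_iff_commute, ← map_commutatorElement]
    exact (QuotientGroup.eq_one_iff _).2 (s.commU' m h hx hy)
  refine (QuotientGroup.eq_one_iff _).1 ?_
  show QuotientGroup.mk' C ⁅g, ⁅a, b⁆⁆ = 1
  rw [commutatorElement_def g, map_mul, map_inv, e, map_commutatorElement, map_mul, map_mul,
    commutatorElement_mul_central (hq hu (h.hUD hu')) (hq hu ha) (hq hu hb) (hq hu' ha) (hq hu' hb), ← map_commutatorElement,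
    mul_inv_cancel]

/-- The `p`-th powers of `D` are fixed by the residual. -/
theorem pow_mem_resFix {x : G} (hx : x ∈ D) : x ^ p ∈ resFix p D := by
  refine mem_resFix (D.pow_mem hx p) fun g hg => ?_
  set u := ⁅g, x⁆
  have hu : u ∈ U := s.residual_U m h (subset_closure hg) x hx
  have hc : ⁅x, u⁆ ∈ fixG V := by
    rw [← commutatorElement_inv]; exact inv_mem (s.commU' m h hu hx)
  have hcc : ∀ y, Commute ⁅x, u⁆ y := fun y => (mem_center_iff.1 hc.2 y).symm
  have e : g * x ^ p * g⁻¹ = x ^ p := by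
    rw [← conj_pow, show g * x * g⁻¹ = u * x by simp only [u, commutatorElement_def]; group,
      mul_pow_of_comm (hcc u) (hcc x) p]
    rcases eq_or_ne p 2 with hp2 | hp2
    · obtain ⟨rfl, -⟩ := h.alt.resolve_right fun h' => h'.1 hp2
      rw [show ⁅x, u⁆ = 1 from commutatorElement_eq_one_iff_mul_comm.2
        (mem_centralizer_iff.1 (m.comm hx) u hu).symm, one_pow, one_mul, m.pow u hu, one_mul]
    · obtain ⟨k, hk⟩ : p ∣ p.choose 2 := hp.out.dvd_choose_self two_ne_zero (by
        have := hp.out.two_le; omega)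
      rw [h.powU hp2 u hu, hk, pow_mul, m.pow _ hc.1, one_pow, one_mul, one_mul]
  calc g * x ^ p = g * x ^ p * g⁻¹ * g := by group
    _ = _ := by rw [e]

theorem resFix_inf_le : resFix p D ⊓ V ≤ fixG V := by
  haveI := s.normalD
  haveI := m.normal
  have hN : ((resFix p D ⊓ V) ⊔ fixG V).Normal := inferInstance
  rcases s.eq_fixG_or_eq m (N := (resFix p D ⊓ V) ⊔ fixG V) le_sup_right
    (sup_le inf_le_right inf_le_left) with e | e
  · exact le_sup_left.trans e.le
  · exfalso
    refine m.ncov (top_le_iff.1 ?_)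
    obtain ⟨P, hP⟩ := s.sylow
    rw [← residual_sup_sylow P, hP]
    refine sup_le_sup_right ?_ S
    rw [le_centralizer_iff]
    exact e.ge.trans (sup_le (inf_le_left.trans inf_le_right)
      (inf_le_right.trans (center_le_centralizer _)))

/-- A subgroup invariant under `S` and fixed by the residual is normal. -/
theorem normal_of_le_resFix {T : Subgroup G} (hS : S ≤ normalizer (T : Set G))
    (hT : T ≤ resFix p D) : T.Normal := by
  obtain ⟨P, hP⟩ := s.sylow
  rw [← normalizer_eq_top_iff, ← top_le_iff, ← residual_sup_sylow P, hP]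
  refine sup_le ?_ hS
  refine le_trans ?_ (centralizer_le_normalizer _)
  rw [le_centralizer_iff]
  exact hT.trans inf_le_right

end Setup

end Cfsg.Agent.Lib.RankOnePush
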