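import Mathlib
import Cfsg.Agent.Lib.RankOnePush.Resfix
/-!
The nilpotency class and exponent of `S`, given the shape of `D`.
-/

set_option autoImplicit false
set_option linter.unusedSectionVars false

namespace Cfsg.Agent.Lib.RankOnePush

open Subgroup
open Cfsg.Agent.Lib
open Cfsg.Agent.Lib.SL2 (SLtwo PSLtwo proj upper lower diag weyl)
open scoped commutatorElement

variable {G : Type*} [Group G]

/-- The elements of `D` moved into `W` by `S`. -/
def layer (S D W : Subgroup G) (hD : D ≤ S) (hW : S ≤ normalizer (W : Set G)) : Subgroup G where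
  carrier := {x | x ∈ D ∧ ∀ t ∈ S, ⁅x, t⁆ ∈ W}
  one_mem' := ⟨one_mem _, fun t _ => by rw [commutatorElement_one_left]; exact one_mem _⟩
  mul_mem' {x y} hx hy := ⟨D.mul_mem hx.1 hy.1, fun t ht => by
    rw [show ⁅x * y, t⁆ = x * ⁅y, t⁆ * x⁻¹ * ⁅x, t⁆ by simp only [commutatorElement_def]; group]
    exact W.mul_mem ((mem_normalizer_iff.1 (hW (hD hx.1)) _).1 (hy.2 t ht)) (hx.2 t ht)⟩
  inv_mem' {x} hx := ⟨D.inv_mem hx.1, fun t ht => by
    rw [show ⁅x⁻¹, t⁆ = x⁻¹ * ⁅x, t⁆⁻¹ * x⁻¹⁻¹ by simp only [commutatorElement_def]; group]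
    exact (mem_normalizer_iff.1 (hW (inv_mem (hD hx.1))) _).1 (W.inv_mem (hx.2 t ht))⟩

variable [Finite G] {p : ℕ} [hp : Fact p.Prime] {F : Type} [Field F] [Fintype F] {n : ℕ}
variable {S D V U Q X : Subgroup G} {ψ : G →* PSLtwo F}

namespace Setup

variable (s : Setup p S D n ψ) (m : SmallModule p S D n V) (h : Shape p (p ^ n) ⊤ S D V U Q X)

include s h

theorem decomp {x : G} (hx : x ∈ S) : ∃ t ∈ X, ∃ d ∈ D, t * d = x := by
  haveI := s.normalD
  exact mem_sup_of_normal_right.1 (h.hXD ▸ hx)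

theorem fixS_sup_normalizer : S ≤ normalizer ((fixS V S ⊔ resFix p D : Subgroup G) : Set G) := by
  haveI : (resFix p D).Normal := resFix_normal s.normalD
  intro t ht
  refine mem_normalizer_of_conj fun z hz => ?_
  obtain ⟨a, ha, b, hb, rfl⟩ := mem_sup_of_normal_right.1 hz
  rw [show t * (a * b) * t⁻¹ = (t * a * t⁻¹) * (t * b * t⁻¹) by group,
    mem_centralizer_iff.1 ha.2 t ht, mul_inv_cancel_right]
  exact mul_mem_sup ha ((inferInstance : (resFix p D).Normal).conj_mem b hb t)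

include m

theorem resFix_le_layer {W : Subgroup G} (hW : S ≤ normalizer (W : Set G)) (hRW : resFix p D ≤ W) :
    resFix p D ≤ layer S D W s.le_S hW := by
  haveI : (resFix p D).Normal := resFix_normal s.normalD
  refine fun r hr => ⟨hr.1, fun t _ => hRW ?_⟩
  rw [show ⁅r, t⁆ = r * (t * r⁻¹ * t⁻¹) by simp only [commutatorElement_def]; group]
  exact mul_mem hr ((inferInstance : (resFix p D).Normal).conj_mem _ (inv_mem hr) t)

variable {W : Subgroup G} (hW : S ≤ normalizer (W : Set G)) (hRW : resFix p D ≤ W)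
  (hf : ∀ t ∈ X, ∀ t' ∈ X, ∀ u ∈ D, ⁅⁅t, u⁆, t'⁆ ∈ W)

include hW hRW hf

theorem comm_mem_layer {t u : G} (ht : t ∈ X) (hu : u ∈ D) : ⁅t, u⁆ ∈ layer S D W s.le_S hW := by
  have hm : ⁅t, u⁆ ∈ D := h.hUD (h.hXU t ht u hu).1
  refine ⟨hm, fun x hx => ?_⟩
  obtain ⟨t', ht', d, hd, rfl⟩ := s.decomp h hx
  rw [show ⁅⁅t, u⁆, t' * d⁆ = ⁅⁅t, u⁆, t'⁆ * (t' * ⁅⁅t, u⁆, d⁆ * t'⁻¹) by
    simp only [commutatorElement_def]; group]
  exact W.mul_mem (hf t ht t' ht' u hu)
    ((mem_normalizer_iff.1 (hW (h.hXS ht')) _).1 (hRW (s.comm_mem_resFix m h hm hd)))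

theorem comm_mem_layer' {a b : G} (ha : a ∈ S) (hb : b ∈ S) :
    ⁅a, b⁆ ∈ layer S D W s.le_S hW := by
  set P := layer S D W s.le_S hW
  have hPS : S ≤ normalizer (P : Set G) := fun t ht => by
    refine mem_normalizer_of_conj fun x hx => ⟨s.normalD.conj_mem x hx.1 t, fun t' ht' => ?_⟩
    rw [show ⁅t * x * t⁻¹, t'⁆ = t * ⁅x, t⁻¹ * t' * t⁆ * t⁻¹ by simp only [commutatorElement_def]; group]
    exact (mem_normalizer_iff.1 (hW ht) _).1
      (hx.2 _ (S.mul_mem (S.mul_mem (S.inv_mem ht) ht') ht))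
  have hc : ∀ {t x : G}, t ∈ S → x ∈ P → t * x * t⁻¹ ∈ P := fun ht hx =>
    (mem_normalizer_iff.1 (hPS ht) _).1 hx
  obtain ⟨t, ht, d, hd, rfl⟩ := s.decomp h ha
  obtain ⟨t', ht', d', hd', rfl⟩ := s.decomp h hb
  have h1 : ⁅d, t'⁆ ∈ P := by
    rw [← commutatorElement_inv]; exact inv_mem (s.comm_mem_layer m h hW hRW hf ht' hd)
  rw [show ⁅t * d, t' * d'⁆ = t * ⁅d, t' * d'⁆ * t⁻¹ * ⁅t, t' * d'⁆ by
      simp only [commutatorElement_def]; group,
    show ⁅d, t' * d'⁆ = ⁅d, t'⁆ * (t' * ⁅d, d'⁆ * t'⁻¹) by simp only [commutatorElement_def]; group,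
    show ⁅t, t' * d'⁆ = ⁅t, t'⁆ * (t' * ⁅t, d'⁆ * t'⁻¹) by simp only [commutatorElement_def]; group,
    show ⁅t, t'⁆ = 1 from commutatorElement_eq_one_iff_mul_comm.2 (h.commX t ht t' ht'), one_mul]
  exact mul_mem (hc (h.hXS ht) (mul_mem h1 (hc (h.hXS ht')
      (s.resFix_le_layer m h hW hRW (s.comm_mem_resFix m h hd hd')))))
    (hc (h.hXS ht') (s.comm_mem_layer m h hW hRW hf ht hd'))

theorem lcs_one_le : S.lowerCentralSeries 1 ≤ layer S D W s.le_S hW :=
  commutator_le.2 fun _ ha _ hb => s.comm_mem_layer' m h hW hRW hf ha hb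

theorem lcs_two_le : S.lowerCentralSeries 2 ≤ W :=
  commutator_le.2 fun a ha b hb => (s.lcs_one_le m h hW hRW hf ha).2 b hb

theorem pow_mem_layer {x : G} (hx : x ∈ S) : x ^ p ∈ layer S D W s.le_S hW := by
  set P := layer S D W s.le_S hW
  set P' := P.subgroupOf S with hP'
  haveI : P'.Normal := by
    refine ⟨fun y hy g => ?_⟩
    show (g : G) * y * (g : G)⁻¹ ∈ P
    rw [show (g : G) * y * (g : G)⁻¹ = ⁅(g : G), (y : G)⁆ * y by simp only [commutatorElement_def]; group]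
    exact mul_mem (s.comm_mem_layer' m h hW hRW hf g.2 y.2) hy
  have hcomm : ∀ a b : S, Commute (QuotientGroup.mk' P' a) (QuotientGroup.mk' P' b) := by
    intro a b
    rw [← commutatorElement_eq_one_iff_commute, ← map_commutatorElement]
    exact (QuotientGroup.eq_one_iff _).2 (s.comm_mem_layer' m h hW hRW hf a.2 b.2)
  obtain ⟨t, ht, d, hd, rfl⟩ := s.decomp h hx
  refine (QuotientGroup.eq_one_iff (N := P') (⟨t * d, hx⟩ ^ p : S)).1 ?_
  show QuotientGroup.mk' P' ((⟨t, h.hXS ht⟩ * ⟨d, s.le_S hd⟩ : S) ^ p) = 1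
  rw [map_pow, map_mul, (hcomm _ _).mul_pow, ← map_pow, ← map_pow,
    show (⟨t, h.hXS ht⟩ : S) ^ p = 1 from Subtype.ext (by simpa using h.powX t ht), map_one, one_mul]
  exact (QuotientGroup.eq_one_iff _).2 (by
    show d ^ p ∈ P
    exact s.resFix_le_layer m h hW hRW (s.pow_mem_resFix m h hd))

omit hW hRW hf

theorem triple_mem : ∀ t ∈ X, ∀ t' ∈ X, ∀ u ∈ D, ⁅⁅t, u⁆, t'⁆ ∈ fixS V S ⊔ resFix p D := by
  intro t ht t' ht' u hu
  rw [← commutatorElement_inv]
  exact inv_mem (mem_sup_left (h.hXQ t' ht' _ (h.hXU t ht u hu).2))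

theorem lcs_three_le : S.lowerCentralSeries 3 ≤ resFix p D := by
  have hW := s.fixS_sup_normalizer h
  have hR : S ≤ normalizer (resFix p D : Set G) := by
    rw [normalizer_eq_top_iff.2 (resFix_normal s.normalD)]; exact le_top
  refine (commutator_mono (s.lcs_two_le m h hW le_sup_right (s.triple_mem m h)) le_rfl).trans
    (commutator_le.2 fun a ha b hb => ?_)
  have hle : fixS V S ⊔ resFix p D ≤ layer S D (resFix p D) s.le_S hR :=
    sup_le (fun z hz => ⟨m.le hz.1, fun t ht => by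
      rw [show ⁅z, t⁆ = 1 from commutatorElement_eq_one_iff_mul_comm.2
        (mem_centralizer_iff.1 hz.2 t ht).symm]
      exact one_mem _⟩) (s.resFix_le_layer m h hR le_rfl)
  exact (hle ha).2 b hb

theorem pow_sq_mem {x : G} (hx : x ∈ S) : x ^ (p * p) ∈ resFix p D := by
  rw [pow_mul]
  exact s.pow_mem_resFix m h
    (s.pow_mem_layer m h (s.fixS_sup_normalizer h) le_sup_right (s.triple_mem m h) hx).1

theorem pow_mem_of_triple (hp2 : p ≠ 2)
    (hf : ∀ t ∈ X, ∀ t' ∈ X, ∀ u ∈ D, ⁅⁅t, u⁆, t'⁆ ∈ resFix p D) {x : G} (hx : x ∈ S) :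
    x ^ p ∈ resFix p D := by
  haveI hRn : (resFix p D).Normal := resFix_normal s.normalD
  have hR : S ≤ normalizer (resFix p D : Set G) := by
    rw [normalizer_eq_top_iff.2 hRn]; exact le_top
  set q := QuotientGroup.mk' (resFix p D)
  obtain ⟨t, ht, d, hd, rfl⟩ := s.decomp h hx
  have hcP : ⁅d, t⁆ ∈ layer S D (resFix p D) s.le_S hR :=
    s.comm_mem_layer' m h hR le_rfl hf (s.le_S hd) (h.hXS ht)
  have hc : ∀ {y : G}, y ∈ S → Commute (q ⁅d, t⁆) (q y) := fun hy => by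
    rw [← commutatorElement_eq_one_iff_commute, ← map_commutatorElement]
    exact (QuotientGroup.eq_one_iff _).2 (hcP.2 _ hy)
  refine (QuotientGroup.eq_one_iff _).1 ?_
  show q ((t * d) ^ p) = 1
  rw [map_pow, map_mul, mul_pow_of_comm (by rw [← map_commutatorElement]; exact hc (h.hXS ht))
    (by rw [← map_commutatorElement]; exact hc (s.le_S hd)), ← map_commutatorElement]
  obtain ⟨k, hk⟩ : p ∣ p.choose 2 := hp.out.dvd_choose_self two_ne_zero (by
    have := hp.out.two_le; omega)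
  have h1 : q (⁅d, t⁆ ^ p) = 1 := (QuotientGroup.eq_one_iff _).2 (s.pow_mem_resFix m h hcP.1)
  have h2 : q (d ^ p) = 1 := (QuotientGroup.eq_one_iff _).2 (s.pow_mem_resFix m h hd)
  rw [hk, pow_mul, ← map_pow, h1, one_pow, one_mul, ← map_pow, ← map_pow, h2, h.powX t ht, map_one,
    one_mul]

/-- Two `X`-steps are symmetric, so their vanishing follows from that of the squares. -/
theorem triple_of_square (hp2 : p ≠ 2) (hF : ∀ t ∈ X, ∀ u ∈ D, ⁅t, ⁅t, u⁆⁆ ∈ resFix p D) :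
    ∀ t ∈ X, ∀ t' ∈ X, ∀ u ∈ D, ⁅⁅t, u⁆, t'⁆ ∈ resFix p D := by
  intro t ht t' ht' u hu
  haveI hRn : (resFix p D).Normal := resFix_normal s.normalD
  rw [← commutatorElement_inv]
  refine inv_mem ?_
  set q := QuotientGroup.mk' (resFix p D)
  set A := ⁅t, u⁆
  set B := ⁅t', u⁆
  set zB := ⁅t, B⁆
  set zA := ⁅t', A⁆
  have hA := h.hXU t ht u hu
  have hB := h.hXU t' ht' u hu
  have hAD : A ∈ D := h.hUD hA.1
  have hBD : B ∈ D := h.hUD hB.1
  have hzA : zA ∈ fixS V S := h.hXQ t' ht' A hA.2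
  have hzB : zB ∈ fixS V S := h.hXQ t ht B hB.2
  have hfix : ∀ {z : G}, z ∈ fixS V S → ∀ {y : G}, y ∈ S → y * z * y⁻¹ = z := fun hz y hy => by
    rw [mem_centralizer_iff.1 hz.2 y hy, mul_inv_cancel_right]
  have hone : ∀ {y : G}, q y = 1 ↔ y ∈ resFix p D := fun {y} => QuotientGroup.eq_one_iff y
  have hqc : ∀ {a b : G}, a ∈ D → b ∈ D → Commute (q a) (q b) := fun ha hb => by
    rw [← commutatorElement_eq_one_iff_commute, ← map_commutatorElement]
    exact hone.2 (s.comm_mem_resFix m h ha hb)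
  have hsym : q zB = q zA := by
    have e1 : t * t' * u * (t * t')⁻¹ = zB * B * (A * u) := by
      simp only [zB, B, A, commutatorElement_def]; group
    have e2 : t' * t * u * (t' * t)⁻¹ = zA * A * (B * u) := by
      simp only [zA, B, A, commutatorElement_def]; group
    rw [h.commX t ht t' ht', e2] at e1
    have e3 : q zA * (q A * q B) * q u = q zB * (q B * q A) * q u := by
      simpa [map_mul, mul_assoc] using congrArg q e1
    rw [(hqc hBD hAD).eq] at e3
    exact (mul_right_cancel (mul_right_cancel e3)).symm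
  have htt : t * t' ∈ X := X.mul_mem ht ht'
  have key := hF (t * t') htt u hu
  have hA0 : ⁅t * t', A⁆ = zA * ⁅t, A⁆ := by
    rw [show ⁅t * t', A⁆ = t * zA * t⁻¹ * ⁅t, A⁆ by simp only [zA, commutatorElement_def]; group,
      hfix hzA (h.hXS ht)]
  have hB0 : ⁅t * t', B⁆ = t * ⁅t', B⁆ * t⁻¹ * zB := by
    simp only [zB, commutatorElement_def]; group
  have e4 : ⁅t * t', u⁆ = zB * B * A := by
    simp only [zB, B, A, commutatorElement_def]; group
  rw [e4] at key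
  have e5 : q ⁅t * t', zB * B * A⁆ = q ⁅t * t', zB⁆ * q ⁅t * t', B⁆ * q ⁅t * t', A⁆ := by
    have e6 : ⁅t * t', zB * B * A⁆ = ⁅t * t', zB⁆ * (zB * ⁅t * t', B⁆ * zB⁻¹) *
        ((zB * B) * ⁅t * t', A⁆ * (zB * B)⁻¹) := by
      simp only [commutatorElement_def]; group
    have hzD : zB ∈ D := m.le hzB.1
    have hcD : ∀ {y : G}, y ∈ D → ⁅t * t', y⁆ ∈ D := fun {y} hy => by
      haveI := s.normalD
      rw [commutatorElement_def]
      exact D.mul_mem (s.normalD.conj_mem y hy _) (D.inv_mem hy)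
    rw [e6]
    simp only [map_mul, map_inv]
    rw [(hqc hzD (hcD hBD)).eq, mul_inv_cancel_right, ← map_mul q zB B,
      (hqc (D.mul_mem hzD hBD) (hcD hAD)).eq, mul_inv_cancel_right]
  have hz1 : ⁅t * t', zB⁆ = 1 := commutatorElement_eq_one_iff_mul_comm.2
    (mem_centralizer_iff.1 hzB.2 _ (h.hXS htt))
  have hB1 : q (t * ⁅t', B⁆ * t⁻¹) = 1 := hone.2 (hRn.conj_mem _ (hF t' ht' u hu) t)
  have hA1 : q ⁅t, A⁆ = 1 := hone.2 (hF t ht u hu)
  rw [← hone, e5, hz1, map_one, one_mul, hA0, hB0, map_mul q _ zB, map_mul q zA, hB1, one_mul, hA1, mul_one,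
    hsym, ← pow_two, ← map_pow, hone] at key
  have hcop : Nat.Coprime 2 p := (Nat.coprime_primes Nat.prime_two hp.out).2 (Ne.symm hp2)
  have hp1 : zA ^ p = 1 := m.pow _ hzA.1
  obtain ⟨k, hk⟩ := exists_pow_eq_self_of_coprime
    (hcop.coprime_dvd_right (orderOf_dvd_of_pow_eq_one hp1))
  rw [← hk]
  exact pow_mem key k

/-- If `S` has exponent three, then two `X`-steps vanish. -/
theorem square_of_exponent_three (hp3 : p = 3) (hexp : ∀ x ∈ S, x ^ 3 = 1) :
    ∀ t ∈ X, ∀ u ∈ D, ⁅t, ⁅t, u⁆⁆ ∈ resFix p D := by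
  subst hp3
  intro t ht u hu
  haveI hRn : (resFix 3 D).Normal := resFix_normal s.normalD
  set q := QuotientGroup.mk' (resFix 3 D)
  set A := ⁅t, u⁆
  set zA := ⁅t, A⁆
  have hA := h.hXU t ht u hu
  have hAD : A ∈ D := h.hUD hA.1
  have hzD : zA ∈ D := m.le (h.hXQ t ht A hA.2).1
  have hone : ∀ {y : G}, q y = 1 ↔ y ∈ resFix 3 D := fun {y} => QuotientGroup.eq_one_iff y
  have hqc : ∀ {a b : G}, a ∈ D → b ∈ D → Commute (q a) (q b) := fun ha hb => by
    rw [← commutatorElement_eq_one_iff_commute, ← map_commutatorElement]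
    exact hone.2 (s.comm_mem_resFix m h ha hb)
  have e1 : u * A * u * (zA * A * (A * u)) = (u * t) ^ 3 * (t ^ 3)⁻¹ := by
    simp only [zA, A, commutatorElement_def, pow_succ, pow_zero, one_mul]; group
  rw [hexp _ (S.mul_mem (s.le_S hu) (h.hXS ht)), h.powX t ht, inv_one, mul_one] at e1
  have e2 : q u * q A * q u * (q zA * q A * (q A * q u)) = 1 := by
    simpa [map_mul] using congrArg q e1
  have c1 := hqc hu hAD
  have c2 := hqc hzD hAD
  have c3 := hqc hzD hu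
  have e3 : q zA * (q A ^ 3 * q u ^ 3) = 1 := by
    rw [← e2]
    simp only [pow_succ, pow_zero, one_mul, mul_assoc, c1.eq, c1.left_comm, c2.symm.eq,
      c2.symm.left_comm, c3.symm.eq, c3.symm.left_comm]
  rw [← map_pow, ← map_pow, hone.2 (s.pow_mem_resFix m h hAD), hone.2 (s.pow_mem_resFix m h hu),
    mul_one, mul_one, hone] at e3
  exact e3

end Setup

end Cfsg.Agent.Lib.RankOnePush
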