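import Mathlib
import Cfsg.Agent.Lib.RankOnePush.Class
/-!
The chief factors inside `D`, and the torus argument for primes above three.
-/

set_option autoImplicit false
set_option linter.unusedSectionVars false

namespace Cfsg.Agent.Lib.RankOnePush

open Subgroup
open Cfsg.Agent.Lib
open Cfsg.Agent.Lib.SL2 (SLtwo PSLtwo proj upper lower diag weyl)
open scoped commutatorElement IsMulCommutative

section Iter

variable {G : Type*} [Group G]

theorem iterCommutator_add (N H : Subgroup G) (j : ℕ) :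
    ∀ k, Cfsg.iterCommutator (Cfsg.iterCommutator N H j) H k = Cfsg.iterCommutator N H (j + k)
  | 0 => rfl
  | k + 1 => by
    show ⁅_, H⁆ = ⁅_, H⁆
    rw [iterCommutator_add N H j k]
    rfl

theorem iterCommutator_mono {N M : Subgroup G} (h : N ≤ M) (H : Subgroup G) :
    ∀ k, Cfsg.iterCommutator N H k ≤ Cfsg.iterCommutator M H k
  | 0 => h
  | k + 1 => commutator_mono (iterCommutator_mono h H k) le_rfl

/-- A chief factor on top of a normal section. -/
theorem exists_chief [Finite G] {A B : Subgroup G} (hA : A.Normal) (hB : B.Normal) (hlt : A < B) :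
    ∃ W : Subgroup G, A ≤ W ∧ Cfsg.IsChiefFactor B W := by
  obtain ⟨W, hW, hWmax⟩ := Set.Finite.exists_maximalFor id
    {W : Subgroup G | W.Normal ∧ A ≤ W ∧ W < B} (Set.toFinite _) ⟨A, hA, le_rfl, hlt⟩
  refine ⟨W, hW.2.1, hW.2.2, hB, hW.1, fun N hN hWN hNB => ?_⟩
  by_contra hne
  push Not at hne
  exact hne.1 (le_antisymm (hWmax (j := N) ⟨hN, hW.2.1.trans hWN, lt_of_le_of_ne hNB hne.2⟩ hWN) hWN)

/-- Only central chief factors between two normal subgroups. -/
theorem exists_iter_le [Finite G] {A B : Subgroup G} (hA : A.Normal) (hB : B.Normal) (hAB : A ≤ B)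
    (h : ∀ U W : Subgroup G, A ≤ W → U ≤ B → Cfsg.IsChiefFactor U W → ⁅U, (⊤ : Subgroup G)⁆ ≤ W) :
    ∃ k : ℕ, Cfsg.iterCommutator B ⊤ k ≤ A := by
  induction B using WellFoundedLT.induction with
  | _ B ih =>
    rcases eq_or_lt_of_le hAB with rfl | hlt
    · exact ⟨0, le_rfl⟩
    obtain ⟨W, hAW, hc⟩ := exists_chief hA hB hlt
    obtain ⟨k, hk⟩ := ih W hc.1 hc.2.2.1 hAW fun U' W' h1 h2 => h U' W' h1 (h2.trans hc.1.le)
    refine ⟨1 + k, ?_⟩
    rw [← iterCommutator_add]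
    exact (iterCommutator_mono (h B W hAW le_rfl hc) ⊤ k).trans hk

/-- A `p'`-element trivial on all chief factors of a normal section is trivial on the section. -/
theorem fix_mod_of_chief [Finite G] {p : ℕ} {A B : Subgroup G} (hA : A.Normal) (hB : B.Normal)
    (hBp : IsPGroup p B) (hAB : A ≤ B) {g : G} (hg : (orderOf g).Coprime p)
    (h : ∀ U W : Subgroup G, A ≤ W → U ≤ B → Cfsg.IsChiefFactor U W → ∀ u ∈ U, ⁅g, u⁆ ∈ W) :
    ∀ u ∈ B, ⁅g, u⁆ ∈ A := by
  induction B using WellFoundedLT.induction with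
  | _ B ih =>
    intro u hu
    rcases eq_or_lt_of_le hAB with rfl | hlt
    · haveI := hA
      rw [commutatorElement_def]
      exact mul_mem (hA.conj_mem u hu g) (inv_mem hu)
    obtain ⟨W, hAW, hc⟩ := exists_chief hA hB hlt
    have hW := ih W hc.1 hc.2.2.1 (hBp.to_le hc.1.le) hAW fun U' W' h1 h2 => h U' W' h1 (h2.trans hc.1.le)
    haveI := hA
    set q := QuotientGroup.mk' A
    refine (QuotientGroup.eq_one_iff _).1 ?_
    show q ⁅g, u⁆ = 1
    rw [map_commutatorElement, commutatorElement_eq_one_iff_mul_comm]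
    refine fix_of_chain (U := B.map q) (W := W.map q) ((hBp.to_le hc.1.le).map q)
      (hg.coprime_dvd_left (orderOf_map_dvd q g)) ?_ ?_ _ (mem_map_of_mem q hu)
    · rintro _ ⟨v, hv, rfl⟩
      rw [← map_commutatorElement]
      exact mem_map_of_mem q (h B W hAW le_rfl hc v hv)
    · rintro _ ⟨c, hc', rfl⟩
      rw [← commutatorElement_eq_one_iff_mul_comm, ← map_commutatorElement]
      exact (QuotientGroup.eq_one_iff _).2 (hW c hc')

end Iter

variable {G : Type*} [Group G] [Finite G] {p : ℕ} [hp : Fact p.Prime]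
  {F : Type} [Field F] [Fintype F] {n : ℕ}
variable {S D V U Q X : Subgroup G} {ψ : G →* PSLtwo F}

theorem val_nsmul {V : Subgroup G} [V.Normal] [IsMulCommutative V] (k : ℕ) (x : Additive V) :
    val (k • x) = val x ^ k := rfl

namespace Setup

variable (s : Setup p S D n ψ) (m : SmallModule p S D n V) (h : Shape p (p ^ n) ⊤ S D V U Q X)

include s

/-- Representations given by the same formulas on two opposite Sylow groups agree. -/
theorem pi_ext {w : G} (hgen : S ⊔ S.map (MulAut.conj w).toMonoidHom = ⊤) {H : Type*} [Group H]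
    {π₁ π₂ : G →* H} (h1 : ∀ t ∈ S, π₁ t = π₂ t)
    (h2 : ∀ t ∈ S, π₁ (w * t * w⁻¹) = π₂ (w * t * w⁻¹)) : π₁ = π₂ := by
  refine MonoidHom.eq_of_eqOn_top ?_
  have h : S ⊔ S.map (MulAut.conj w).toMonoidHom ≤ π₁.eqLocus π₂ := sup_le h1 (by
    rintro _ ⟨t, ht, rfl⟩; exact h2 t ht)
  exact fun x hx => h (hgen.ge hx)

theorem proj_comp {w : G} (hw : ψ w = proj weyl) (hgen : S ⊔ S.map (MulAut.conj w).toMonoidHom = ⊤)
    {π : G →* SLtwo F}
    (hπ : ∀ t ∈ S, ∀ a : F, ψ t = proj (upper a) → π t = upper a ∧ π (w * t * w⁻¹) = lower (-a))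
    (g : G) : proj (π g) = ψ g := by
  have e : (proj (F := F)).comp π = ψ := s.pi_ext hgen (fun t ht => by
    obtain ⟨a, ha⟩ := s.exists_upper ht
    rw [MonoidHom.comp_apply, (hπ t ht a ha).1, ha]) (fun t ht => by
    obtain ⟨a, ha⟩ := s.exists_upper ht
    rw [MonoidHom.comp_apply, (hπ t ht a ha).2, map_mul, map_mul, map_inv, hw, ha, ← map_inv,
      ← map_mul, ← map_mul, SL2.weyl_conj_upper])
  exact DFunLike.congr_fun e g

include m h

theorem hact : ∃ X Q : Subgroup G, X ≤ S ∧ X ⊔ D = S ∧ Q ≤ D ∧ Q.relIndex D ≤ p ^ n ∧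
    ∀ t ∈ X, ∀ u ∈ Q, ⁅t, u⁆ ∈ V :=
  ⟨X, Q, h.hXS, h.hXD, h.hQD, h.idxQ, fun t ht u hu => (h.hXQ t ht u hu).1⟩

/-- A chief factor below `D` moved down by `X` is central. -/
theorem central_of_moved {U' W' : Subgroup G} (hUD : U' ≤ D) (hc : Cfsg.IsChiefFactor U' W')
    (hX : ∀ t ∈ X, ∀ u ∈ U', ⁅t, u⁆ ∈ W') : ⁅U', (⊤ : Subgroup G)⁆ ≤ W' := by
  by_contra hnc
  obtain ⟨w, hw, hgen⟩ := s.exists_weyl
  haveI := hc.2.2.1
  obtain ⟨π, -, hπv, hπk, hidx, -, -⟩ := s.chief_natural m (s.hact m h) hw hgen hUD hc hnc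
  set q := QuotientGroup.mk' W'
  have hle : U'.map q ≤ centralizer ((S.map q : Subgroup (G ⧸ W')) : Set (G ⧸ W')) := by
    rintro _ ⟨u, hu, rfl⟩
    refine mem_centralizer_iff.2 ?_
    rintro _ ⟨x, hx, rfl⟩
    obtain ⟨t, ht, d, hd, rfl⟩ := s.decomp h hx
    rw [← commutatorElement_eq_one_iff_mul_comm, ← map_commutatorElement]
    refine (QuotientGroup.eq_one_iff _).2 ?_
    rw [show ⁅t * d, u⁆ = t * ⁅d, u⁆ * t⁻¹ * ⁅t, u⁆ by simp only [commutatorElement_def]; group]
    refine mul_mem (hc.2.2.1.conj_mem _ ((hπk d).1 ?_ u hu) t) (hX t ht u hu)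
    have h0 : ψ d = proj (upper (0 : F)) := by
      rw [SL2.upper_zero, map_one]; exact s.le_ker hd
    rw [MonoidHom.mem_ker, (hπv d (s.le_S hd) 0 h0).1, SL2.upper_zero]
  rw [inf_eq_left.2 hle, relIndex_self] at hidx
  exact s.one_lt.ne hidx

/-- The second possibility of the shape gives a noncentral chief factor between `V` and `U`. -/
theorem exists_noncentral (halt : ¬ (U = V ∧ Q = D)) : ∃ U' W' : Subgroup G,
    V ≤ W' ∧ U' ≤ U ∧ Cfsg.IsChiefFactor U' W' ∧ ¬ ⁅U', (⊤ : Subgroup G)⁆ ≤ W' := by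
  by_contra hno
  push Not at hno
  haveI := m.normal
  obtain ⟨-, hmove⟩ := h.alt.resolve_left halt
  refine hmove fun g _ => ?_
  obtain ⟨P, hP⟩ := s.sylow
  obtain ⟨l, hl, t, ht, rfl⟩ := mem_sup_of_normal_left.1
    ((hP ▸ residual_sup_sylow P : Cfsg.pResidual p G ⊔ S = ⊤) ▸ mem_top g)
  refine ⟨t, ht, fun u hu => ?_⟩
  rw [mul_inv_cancel_right]
  let A : Subgroup G :=
    { carrier := {g | ∀ u ∈ U, ⁅g, u⁆ ∈ V}
      one_mem' := fun u _ => by rw [commutatorElement_one_left]; exact one_mem _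
      mul_mem' := fun {a b} ha hb u hu => by
        rw [show ⁅a * b, u⁆ = a * ⁅b, u⁆ * a⁻¹ * ⁅a, u⁆ by simp only [commutatorElement_def]; group]
        exact mul_mem (m.normal.conj_mem _ (hb u hu) a) (ha u hu)
      inv_mem' := fun {a} ha u hu => by
        rw [show ⁅a⁻¹, u⁆ = a⁻¹ * ⁅a, u⁆⁻¹ * a⁻¹⁻¹ by simp only [commutatorElement_def]; group]
        exact m.normal.conj_mem _ (inv_mem (ha u hu)) a⁻¹ }
  suffices hle : Cfsg.pResidual p G ≤ A from hle hl u hu
  rw [Cfsg.pResidual, closure_le]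
  intro x hx
  exact fix_mod_of_chief m.normal h.normal (s.isPGroup.to_le (h.hUD.trans s.le_S)) h.hVU hx
    fun U' W' h1 h2 hc v hv => by
      rw [← commutatorElement_inv]
      exact inv_mem (hno U' W' h1 h2 hc (commutator_mem_commutator hv (mem_top x)))

/-- The position of a noncentral chief factor above `V`. -/
theorem factor_facts {U' W' : Subgroup G} (hVW : V ≤ W') (hUD : U' ≤ D)
    (hc : Cfsg.IsChiefFactor U' W') (hnc : ¬ ⁅U', (⊤ : Subgroup G)⁆ ≤ W') :
    W' ≤ Q ∧ (∀ u ∈ D, ∃ u' ∈ U', ∃ v ∈ Q, u' * v = u) ∧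
      ∀ v ∈ U', (∀ t ∈ S, ⁅t, v⁆ ∈ W') → v ∈ Q := by
  obtain ⟨w, hw, hgen⟩ := s.exists_weyl
  haveI := hc.2.2.1
  obtain ⟨π, -, hπv, hπk, hidx, -, -⟩ := s.chief_natural m (s.hact m h) hw hgen hUD hc hnc
  set q := QuotientGroup.mk' W'
  set U'' := U'.map q
  set Fx := U'' ⊓ centralizer ((S.map q : Subgroup (G ⧸ W')) : Set (G ⧸ W'))
  set K := (U' ⊓ Q) ⊔ W' with hK
  have hKfix : K.map q ≤ Fx := by
    rintro _ ⟨k, hk, rfl⟩
    obtain ⟨a, ha, c, hc', rfl⟩ := mem_sup_of_normal_right.1 hk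
    rw [map_mul, show q c = 1 from (QuotientGroup.eq_one_iff c).2 hc', mul_one]
    refine ⟨mem_map_of_mem q ha.1, mem_centralizer_iff.2 ?_⟩
    rintro _ ⟨x, hx, rfl⟩
    obtain ⟨t, ht, d, hd, rfl⟩ := s.decomp h hx
    rw [← commutatorElement_eq_one_iff_mul_comm, ← map_commutatorElement]
    refine (QuotientGroup.eq_one_iff _).2 ?_
    rw [show ⁅t * d, a⁆ = t * ⁅d, a⁆ * t⁻¹ * ⁅t, a⁆ by simp only [commutatorElement_def]; group]
    refine mul_mem (hc.2.2.1.conj_mem _ ((hπk d).1 ?_ a ha.1) t) (hVW (h.hXQ t ht a ha.2).1)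
    have h0 : ψ d = proj (upper (0 : F)) := by
      rw [SL2.upper_zero, map_one]; exact s.le_ker hd
    rw [MonoidHom.mem_ker, (hπv d (s.le_S hd) 0 h0).1, SL2.upper_zero]
  have hKle : K ≤ U' := sup_le inf_le_left hc.1.le
  have hKU : p ^ n ≤ K.relIndex U' := hidx.ge.trans ((Nat.le_of_dvd
    (Nat.pos_of_ne_zero index_ne_zero_of_finite) (relIndex_dvd_of_le_left U'' hKfix)).trans
      (relIndex_map_le q))
  have hQU : Q.relIndex U' ≤ Q.relIndex D := relIndex_le_of_le_right hUD index_ne_zero_of_finite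
  have hmul := relIndex_mul_relIndex (U' ⊓ Q) K U' le_sup_left hKle
  rw [inf_relIndex_left] at hmul
  have hKQ : (U' ⊓ Q).relIndex K = 1 := by
    have hpos : (U' ⊓ Q).relIndex K ≠ 0 := index_ne_zero_of_finite
    have hle : (U' ⊓ Q).relIndex K * K.relIndex U' ≤ 1 * K.relIndex U' := by
      rw [hmul, one_mul]; exact (hQU.trans h.idxQ).trans hKU
    have := Nat.le_of_mul_le_mul_right hle (lt_of_lt_of_le (pow_pos hp.out.pos n) hKU)
    omega
  have hKeq : K ≤ U' ⊓ Q := relIndex_eq_one.1 hKQ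
  have hWQ : W' ≤ Q := (le_sup_right.trans hKeq).trans inf_le_right
  have hQeq : Q.relIndex U' = Q.relIndex D := by
    refine le_antisymm hQU (h.idxQ.trans (hKU.trans ?_))
    rw [hKQ, one_mul] at hmul
    exact hmul.le
  have hfix : Fx ≤ K.map q := by
    refine relIndex_eq_one.1 ?_
    have h2 := relIndex_mul_relIndex (K.map q) Fx U'' hKfix inf_le_left
    have h3 : (K.map q).relIndex U'' ≤ p ^ n :=
      (relIndex_map_le q).trans (by
        rw [hKQ, one_mul] at hmul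
        rw [hmul]; exact hQU.trans h.idxQ)
    rw [hidx] at h2
    have hpos : (K.map q).relIndex Fx ≠ 0 := index_ne_zero_of_finite
    have hle : (K.map q).relIndex Fx * p ^ n ≤ 1 * p ^ n := by rw [h2, one_mul]; exact h3
    have := Nat.le_of_mul_le_mul_right hle (pow_pos hp.out.pos n)
    omega
  refine ⟨hWQ, fun u hu => ?_, fun v hv hvS => ?_⟩
  · have hsurj : Function.Surjective
        (Subgroup.quotientSubgroupOfEmbeddingOfLE Q hUD) := by
      have hi := (Subgroup.quotientSubgroupOfEmbeddingOfLE Q hUD).injective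
      exact ((Nat.bijective_iff_injective_and_card _).2 ⟨hi, hQeq⟩).surjective
    obtain ⟨y, hy⟩ := hsurj (QuotientGroup.mk (⟨u, hu⟩ : D))
    obtain ⟨u', rfl⟩ := QuotientGroup.mk_surjective y
    rw [Subgroup.quotientSubgroupOfEmbeddingOfLE_apply_mk] at hy
    have hv := QuotientGroup.eq.1 hy
    exact ⟨u', u'.2, _, hv, mul_inv_cancel_left _ _⟩
  · have hmem : q v ∈ Fx := by
      refine ⟨mem_map_of_mem q hv, mem_centralizer_iff.2 ?_⟩
      rintro _ ⟨t, ht, rfl⟩
      rw [← commutatorElement_eq_one_iff_mul_comm, ← map_commutatorElement]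
      exact (QuotientGroup.eq_one_iff _).2 (hvS t ht)
    obtain ⟨k, hk, hkv⟩ := hfix hmem
    have h4 : k⁻¹ * v ∈ W' := (QuotientGroup.eq_one_iff _).1 (by
      show q (k⁻¹ * v) = 1
      rw [map_mul, map_inv, hkv, inv_mul_cancel])
    have := Q.mul_mem (hKeq hk).2 (hWQ h4)
    rwa [mul_inv_cancel_left] at this

theorem fixG_chief : Cfsg.IsChiefFactor V (fixG V) ∧ ¬ ⁅V, (⊤ : Subgroup G)⁆ ≤ fixG V := by
  haveI := m.normal
  have hne : fixG V ≠ V := fun e => s.not_le_fixG m (fun z hz => e.ge hz.1)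
  refine ⟨⟨lt_of_le_of_ne inf_le_left hne, m.normal, inferInstance, fun N hN h1 h2 => ?_⟩, fun hle => ?_⟩
  · haveI := hN
    exact s.eq_fixG_or_eq m h1 h2
  · obtain ⟨t, ht, htD⟩ : ∃ t ∈ S, t ∉ D := SetLike.not_le_iff_exists.1 fun hle' => by
      have h1 := s.relIndex_D
      rw [relIndex_eq_one.2 hle'] at h1
      exact s.one_lt.ne h1
    obtain ⟨w, hw, hgen⟩ := s.exists_weyl
    obtain ⟨v, hv, hvZ⟩ : ∃ v ∈ V, v ∉ fixS V S := SetLike.not_le_iff_exists.1 fun hle' => by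
      have h1 := (s.card_facts m hw hgen).2.2
      rw [relIndex_eq_one.2 hle'] at h1
      exact s.one_lt.ne h1
    refine (s.comm_central m ht hv ?_).elim hvZ htD
    rw [← commutatorElement_inv]
    exact inv_mem (hle (commutator_mem_commutator hv (mem_top t))).2

set_option maxHeartbeats 1000000 in
/-- For `p > 3` two equal `X`-steps vanish modulo the fixed part. -/
theorem square_mem_of_torus (hp3 : 3 < p) :
    ∀ t ∈ X, ∀ u ∈ D, ⁅t, ⁅t, u⁆⁆ ∈ resFix p D := by
  intro t ht u hu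
  have hR0 : fixG V ≤ resFix p D := s.fixG_le_resFix m h
  by_cases halt : U = V ∧ Q = D
  · rw [commutatorElement_eq_one_iff_mul_comm.2 (mem_centralizer_iff.1
      (h.hXQ t ht u (halt.2.symm ▸ hu)).2 t (h.hXS ht))]
    exact one_mem _
  obtain ⟨U', W', hVW, hU'U, hc, hnc⟩ := s.exists_noncentral m h halt
  have hU'D : U' ≤ D := hU'U.trans h.hUD
  obtain ⟨hWQ, hdec, hfixQ⟩ := s.factor_facts m h hVW hU'D hc hnc
  obtain ⟨hcV, hncV⟩ := s.fixG_chief m h
  obtain ⟨w, hw, hgen⟩ := s.exists_weyl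
  haveI := hc.2.2.1
  haveI := hcV.2.2.1
  obtain ⟨π, hπs, hπv, -, -, htor, -⟩ := s.chief_natural m (s.hact m h) hw hgen hU'D hc hnc
  obtain ⟨π₁, -, hπ₁v, -, -, htor₁, -⟩ := s.chief_natural m (s.hact m h) hw hgen m.le hcV hncV
  have hπeq : π₁ = π := s.pi_ext hgen (fun x hx => by
    obtain ⟨a, ha⟩ := s.exists_upper hx
    rw [(hπ₁v x hx a ha).1, (hπv x hx a ha).1]) (fun x hx => by
    obtain ⟨a, ha⟩ := s.exists_upper hx
    rw [(hπ₁v x hx a ha).2, (hπv x hx a ha).2])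
  have hpp := s.proj_comp hw hgen hπv
  haveI : CharP F p := charP_of_card_eq_prime_pow s.card
  have h2 : (2 : F) ≠ 0 := by
    intro h0
    have := (CharP.cast_eq_zero_iff F p 2).1 (by exact_mod_cast h0)
    exact absurd (Nat.le_of_dvd two_pos this) (by omega)
  -- an element normalising `S` with image `± diag 2`
  obtain ⟨h₀, hh₀⟩ := hπs (diag (Units.mk0 2 h2))
  obtain ⟨P, hP⟩ := s.sylow
  set H := ψ.ker ⊔ S
  have hSH : (P : Subgroup G) ≤ H := hP ▸ le_sup_right
  have hh₀H : ∀ x ∈ S, h₀ * x * h₀⁻¹ ∈ H := by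
    intro x hx
    obtain ⟨a, ha⟩ := s.exists_upper hx
    obtain ⟨y, hy, hyψ⟩ := s.exists_mem (4 * a)
    have e : ψ (h₀ * x * h₀⁻¹) = ψ y := by
      rw [← hpp, ← hpp y, map_mul π, map_mul π, map_inv, hh₀, (hπv x hx a ha).1, (hπv y hy _ hyψ).1,
        SL2.diag_conj_upper, Units.val_mk0]
      norm_num
    have hk : h₀ * x * h₀⁻¹ * y⁻¹ ∈ ψ.ker := by
      rw [MonoidHom.mem_ker, map_mul, map_inv, e, mul_inv_cancel]
    simpa using mul_mem_sup hk hy
  have hP' : ((h₀ • P : Sylow p G) : Subgroup G) ≤ H := by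
    rw [Sylow.coe_subgroup_smul]
    rintro _ ⟨x, hx, rfl⟩
    exact hh₀H x (hP ▸ hx)
  obtain ⟨k, hk⟩ := MulAction.exists_smul_eq H ((h₀ • P).subtype hP') (P.subtype hSH)
  rw [Sylow.smul_subtype] at hk
  have hk' : ((k : G) * h₀) • P = P := by
    rw [mul_smul]; exact Sylow.subtype_injective hk
  set g := (k : G) * h₀
  have hgS : ∀ x ∈ S, g * x * g⁻¹ ∈ S := fun x hx => by
    have := Sylow.smul_eq_iff_mem_normalizer.1 hk'
    have hx' : x ∈ (P : Subgroup G) := hP.symm ▸ hx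
    have hr : g * x * g⁻¹ ∈ (P : Subgroup G) := (mem_set_normalizer_iff.1 this x).1 hx'
    rwa [hP] at hr
  have hkψ : ψ (k : G) ∈ upperP F := by
    rw [← s.image, ← bot_sup_eq (S.map ψ), ← (Subgroup.map_eq_bot_iff ψ.ker).2 le_rfl,
      ← Subgroup.map_sup]
    exact mem_map_of_mem ψ k.2
  obtain ⟨b, hb⟩ := mem_upperP.1 hkψ
  obtain ⟨i, hij⟩ : ∃ i : ℕ, (π g).1 1 0 = 0 ∧ (π g).1 0 0 = (i : F) ∧ (i : F) ^ 2 = 4 := by
    have hk2 : π (k : G) = upper b ∨ π (k : G) = -upper b := by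
      rcases SL2.proj_eq_proj_iff.1 ((hpp (k : G)).trans hb.symm) with e | e
      · exact Or.inl (by first | exact e | exact e.symm)
      · exact Or.inr (by first | exact e | (rw [e]; simp))
    have hg : π g = π (k : G) * π h₀ := map_mul _ _ _
    rcases hk2 with e | e
    · refine ⟨2, ?_, ?_, by norm_num⟩ <;>
        simp [hg, e, hh₀, Matrix.mul_apply, Fin.sum_univ_two]
    · refine ⟨p - 2, ?_, ?_, ?_⟩
      · simp [hg, e, hh₀, Matrix.mul_apply, Fin.sum_univ_two]
      · simp [hg, e, hh₀, Matrix.mul_apply, Fin.sum_univ_two, Nat.cast_sub (show 2 ≤ p by omega), CharP.cast_eq_zero]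
      · simp [Nat.cast_sub (show 2 ≤ p by omega), CharP.cast_eq_zero]; norm_num
  obtain ⟨h10, h00, hi2⟩ := hij
  have hicop : i.Coprime p := (hp.out.coprime_iff_not_dvd.2 fun hd => by
    rw [(CharP.cast_eq_zero_iff F p i).2 hd] at hi2
    have h4 : ((2 : F)) * 2 = 0 := by norm_num; simpa using hi2.symm
    exact h2 ((mul_self_eq_zero).1 h4)).symm
  obtain ⟨j, -, hj⟩ := Nat.exists_mul_mod_eq_one_of_coprime hicop hp.out.one_lt
  have hijF : (i : F) * (j : F) = 1 := by
    rw [← Nat.cast_mul, CharP.cast_eq_mod F p, hj, Nat.cast_one]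
  have h11 : (π g).1 1 1 = (j : F) := by
    have hdet := SL2.det_entries (π g)
    have e : (i : F) * (π g).1 1 1 = (i : F) * (j : F) := by
      rw [hijF, ← h00]
      have h10' : (π g) 1 0 = 0 := h10
      rw [h10', mul_zero, sub_zero] at hdet
      exact hdet
    exact mul_left_cancel₀ (left_ne_zero_of_mul_eq_one hijF) e
  obtain ⟨-, hu1⟩ := htor g i j h10 h00 h11
  obtain ⟨hz1, -⟩ := htor₁ g i j (hπeq ▸ h10) (hπeq ▸ h00) (hπeq ▸ h11)
  -- conjugation by `g` takes `t` to `t ^ 4` modulo `D`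
  have hgt : (t ^ 4)⁻¹ * (g * t * g⁻¹) ∈ D := by
    obtain ⟨a, ha⟩ := s.exists_upper (h.hXS ht)
    rw [← s.kerS]
    refine ⟨?_, S.mul_mem (S.inv_mem (S.pow_mem (h.hXS ht) 4)) (hgS t (h.hXS ht))⟩
    have e : π (g * t * g⁻¹) = π (t ^ 4) := by
      rw [map_mul, map_mul, map_inv, map_pow, (hπv t (h.hXS ht) a ha).1]
      have hM : ∀ M : SLtwo F, M 1 0 = 0 → (M 0 0) ^ 2 = 4 → M * upper a * M⁻¹ = upper (4 * a) := by
        intro M hM1 hM2
        have hdet := SL2.det_entries M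
        apply SL2.ext_entries <;>
          simp [SL2.mul_00, SL2.mul_01, SL2.mul_10, SL2.mul_11, SL2.inv_00, SL2.inv_01, SL2.inv_10,
            SL2.inv_11, hM1] <;> grobner
      have hpow : upper a ^ 4 = upper (4 * a) := by
        simp only [pow_succ, pow_zero, one_mul]
        apply SL2.ext_entries <;> simp [SL2.mul_00, SL2.mul_01, SL2.mul_10, SL2.mul_11] <;> ring
      rw [hpow]
      exact hM _ h10 (by rw [show (π g) 0 0 = (i : F) from h00]; exact hi2)
    show ψ _ = 1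
    rw [← hpp, map_mul π, map_inv π, e, inv_mul_cancel, map_one]
  -- the additive model of `D` modulo the fixed part
  haveI := s.normalD
  set qR := QuotientGroup.mk' (resFix p D)
  set D' := D.map qR
  haveI : D'.Normal := s.normalD.map qR (QuotientGroup.mk'_surjective _)
  haveI : IsMulCommutative D' := by
    refine ⟨⟨?_⟩⟩
    rintro ⟨_, a, ha, rfl⟩ ⟨_, c, hc', rfl⟩
    refine Subtype.ext (commutatorElement_eq_one_iff_mul_comm.1 ?_)
    show ⁅qR a, qR c⁆ = 1
    rw [← map_commutatorElement]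
    exact (QuotientGroup.eq_one_iff _).2 (s.comm_mem_resFix m h ha hc')
  let el : ∀ x, x ∈ D → Additive D' := fun x hx =>
    Additive.ofMul (⟨qR x, mem_map_of_mem qR hx⟩ : D')
  have hel : ∀ x hx, val (el x hx) = qR x := fun x hx => rfl
  have hδ : ∀ (a x : G) (hx : x ∈ D), val (delta (qR a) (el x hx)) = qR ⁅a, x⁆ := fun a x hx => by
    rw [val_delta, hel x hx, map_commutatorElement]
  -- double steps are fixed
  have hfixZ : ∀ (y : G), y ∈ fixS V S → ∀ (x : Additive D'), val x = qR y →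
      delta (qR t) x = 0 := fun y hy x hx => val_inj (by
    rw [val_delta, hx, ← map_commutatorElement,
      commutatorElement_eq_one_iff_mul_comm.2 (mem_centralizer_iff.1 hy.2 t (h.hXS ht)), map_one]
    rfl)
  have h3 : ∀ x : Additive D', delta (qR t) (delta (qR t) (delta (qR t) x)) = 0 := by
    intro x
    obtain ⟨x', hx', hxe⟩ := val_mem x
    refine hfixZ _ (h.hXQ t ht _ (h.hXU t ht x' hx').2) _ ?_
    rw [val_delta, val_delta, ← hxe, ← map_commutatorElement, ← map_commutatorElement]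
  set δ := delta (V := D') (qR t) with hδdef
  have hQ0 : ∀ (v : G) (hv : v ∈ D), v ∈ Q → δ (δ (el v hv)) = 0 := fun v hv hvQ =>
    hfixZ _ (h.hXQ t ht v hvQ) _ (hδ t v hv)
  obtain ⟨u', hu', v₀, hv₀, rfl⟩ := hdec u hu
  have hu'D := hU'D hu'
  have hv₀D := h.hQD hv₀
  set y := el u' hu'D
  set Fy := δ (δ y) with hFy
  suffices hF : Fy = 0 by
    refine (QuotientGroup.eq_one_iff _).1 ?_
    show qR ⁅t, ⁅t, u' * v₀⁆⁆ = 1
    have e : el (u' * v₀) hu = y + el v₀ hv₀D := val_inj rfl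
    have := congrArg val (show δ (δ (el (u' * v₀) hu)) = 0 by
      rw [e, map_add, map_add, hQ0 v₀ hv₀D hv₀, ← hFy, hF, add_zero])
    rw [hδdef, val_delta, val_delta, hel _ hu, ← map_commutatorElement, ← map_commutatorElement] at this
    exact this
  have hz : ⁅t, ⁅t, u'⁆⁆ ∈ fixS V S := h.hXQ t ht _ (h.hXU t ht u' hu'D).2
  have hvalF : val Fy = qR ⁅t, ⁅t, u'⁆⁆ := by
    rw [hFy, hδdef, val_delta, val_delta, hel _ hu'D, ← map_commutatorElement, ← map_commutatorElement]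
  have hpF : p • Fy = 0 := val_inj (by
    rw [val_nsmul, hvalF, ← map_pow, m.pow _ hz.1, map_one]; rfl)
  -- the left side
  have hL : conjE D' (qR g) Fy = i • Fy := val_inj (by
    rw [val_conjE, val_nsmul, hvalF, ← map_pow, ← map_inv, ← map_mul, ← map_mul]
    refine (QuotientGroup.eq.2 (hR0 (hz1 _ hz.1 fun a ha => ?_))).symm
    rw [commutatorElement_eq_one_iff_mul_comm.2 (mem_centralizer_iff.1 hz.2 a ha)]
    exact one_mem _)
  -- conjugation exchanges the steps
  have hswap : ∀ x, conjE D' (qR g) (δ x) =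
      delta (qR (g * t * g⁻¹)) (conjE D' (qR g) x) := fun x => by
    rw [hδdef, delta_apply, delta_apply, map_sub, ← conjE_mul, ← conjE_mul, ← map_mul, ← map_mul,
      inv_mul_cancel_right]
  set δ4 := delta (V := D') (qR (t ^ 4)) with hδ4
  have heq4 : ∀ x, delta (qR (g * t * g⁻¹)) x = δ4 x := fun x => by
    rw [show g * t * g⁻¹ = t ^ 4 * ((t ^ 4)⁻¹ * (g * t * g⁻¹)) by group, hδ4, delta_apply,
      delta_apply, map_mul qR, conjE_mul, conjE_eq_self (g := qR ((t ^ 4)⁻¹ * (g * t * g⁻¹)))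
        (mem_centralizer_iff.2 fun a ha =>
          congrArg Subtype.val (mul_comm' (⟨a, ha⟩ : D') ⟨_, mem_map_of_mem qR hgt⟩))]
  have h44 : ∀ x, δ4 (δ4 x) = 16 • δ (δ x) := by
    have hT : ∀ x, conjE D' (qR t) x = x + δ x := conjE_eq _
    have hT4 : ∀ x, δ4 x = 4 • δ x + 6 • δ (δ x) := fun x => by
      rw [hδ4, delta_apply, show qR (t ^ 4) = qR t * qR t * qR t * qR t by
        simp only [pow_succ, pow_zero, one_mul, map_mul], conjE_mul, conjE_mul, conjE_mul]
      simp only [hT, map_add, h3, map_zero, add_zero]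
      abel
    intro x
    simp only [hT4, map_add, map_nsmul, h3, map_zero, smul_zero, add_zero, smul_smul]; rfl
  -- the right side
  set v := (u' ^ j)⁻¹ * (g * u' * g⁻¹)
  have hgu : g * u' * g⁻¹ ∈ U' := hc.2.1.conj_mem u' hu' g
  have hvU : v ∈ U' := U'.mul_mem (U'.inv_mem (U'.pow_mem hu' j)) hgu
  have hvQ : v ∈ Q := hfixQ v hvU fun a ha => hu1 u' hu' a ha
  have hgy : conjE D' (qR g) y = j • y + el v (hU'D hvU) := val_inj (by
    show qR g * qR u' * (qR g)⁻¹ = qR u' ^ j * qR ((u' ^ j)⁻¹ * (g * u' * g⁻¹))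
    simp only [map_mul, map_inv, map_pow, mul_inv_cancel_left])
  have hmain : i • Fy = (16 * j) • Fy := by
    rw [← hL, hFy, hswap, heq4, hswap, heq4, hgy, h44, map_add, map_nsmul, map_add, map_nsmul,
      hQ0 v (hU'D hvU) hvQ, add_zero, smul_smul]
  have hii : ((i * i : ℕ) : F) = ((4 : ℕ) : F) := by push_cast; rw [← sq]; exact hi2
  have hord : addOrderOf Fy ∣ p := addOrderOf_dvd_of_nsmul_eq_zero hpF
  have hmod : ∀ a c : ℕ, (a : F) = c → a • Fy = c • Fy := fun a c hac =>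
    nsmul_eq_nsmul_iff_modEq.2 (((CharP.natCast_eq_natCast F p).1 hac).of_dvd hord)
  have h12 : 12 • Fy = 0 := by
    have e1 := congrArg (fun z => i • z) hmain
    simp only [smul_smul] at e1
    rw [hmod _ _ hii, hmod (i * (16 * j)) 16 (by
      push_cast
      rw [show (i : F) * (16 * j) = 16 * (i * j) by ring, hijF, mul_one])] at e1
    have e2 : 4 • Fy + 12 • Fy = 4 • Fy + 0 := by rw [← add_nsmul, add_zero]; exact e1.symm
    exact add_left_cancel e2
  have hcop : Nat.Coprime p 12 := hp.out.coprime_iff_not_dvd.2 fun hd => by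
    have h12' : p ∣ 2 * (2 * 3) := hd
    rcases (Nat.Prime.dvd_mul hp.out).1 h12' with h' | h'
    · have := Nat.le_of_dvd two_pos h'; omega
    rcases (Nat.Prime.dvd_mul hp.out).1 h' with h'' | h''
    · have := Nat.le_of_dvd two_pos h''; omega
    · have := Nat.le_of_dvd (by norm_num) h''; omega
  exact AddMonoid.addOrderOf_eq_one_iff.1 (Nat.dvd_one.1 (hcop.gcd_eq_one ▸
    Nat.dvd_gcd hord (addOrderOf_dvd_of_nsmul_eq_zero h12)))

end Setup

end Cfsg.Agent.Lib.RankOnePush
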