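import Mathlib
import Cfsg.Agent.Lib.RankOnePush.Bridge
import Cfsg.Agent.Lib.RankOnePush.Structure
/-!
The shape of `D`, inside a rank one group.
-/

set_option autoImplicit false
set_option linter.unusedSectionVars false

namespace Cfsg.Agent.Lib.RankOnePush

open Subgroup
open Cfsg.Agent.Lib
open Cfsg.Agent.Lib.SL2 (SLtwo PSLtwo)
open scoped commutatorElement

variable {G : Type*} [Group G]

/-- A shape pulls back along an injective homomorphism. -/
theorem Shape.exists_comap {H : Type*} [Group H] {f : G →* H} (hf : Function.Injective f)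
    {p q : ℕ} {Gs S D V : Subgroup G} {U Q X : Subgroup H} (hDS : D ≤ S)
    (h : Shape p q (Gs.map f) (S.map f) (D.map f) (V.map f) U Q X) :
    ∃ U' Q' X' : Subgroup G, Shape p q Gs S D V U' Q' X' := by
  have hb : ∀ {Z : Subgroup H} {W : Subgroup G}, Z ≤ W.map f → ∃ Y : Subgroup G, Y.map f = Z :=
    fun {Z W} h => ⟨Z.comap f, map_comap_eq_self (h.trans (map_le_range f W))⟩
  obtain ⟨U', rfl⟩ := hb h.hUD
  obtain ⟨Q', rfl⟩ := hb h.hQD
  obtain ⟨X', rfl⟩ := hb h.hXS
  have hC : cenL (Gs.map f) (V.map f) = (cenL Gs V).map f := (map_inf_centralizer' hf V Gs).symm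
  have hle : ∀ {A B : Subgroup G}, A.map f ≤ B.map f → A ≤ B := fun h =>
    (map_le_map_iff_of_injective hf).1 h
  have hm : ∀ {A : Subgroup G} {a : G}, f a ∈ A.map f → a ∈ A := fun h => (mem_map_iff_mem hf).1 h
  refine ⟨U', Q', X', fun g hg => map_injective hf ?_, hle h.hVU, hle h.hUD, ?_, ?_, hle h.hXS,
    map_injective hf (by rw [Subgroup.map_sup]; exact h.hXD), ?_, ?_, hle h.hQD, hle h.hVQ, ?_, ?_,
    ?_, ?_⟩
  · rw [← cj_map]
    exact h.normU _ (mem_map_of_mem f hg)
  · intro u hu d hd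
    have h1 := h.commU _ (mem_map_of_mem f hu) _ (mem_map_of_mem f hd)
    rw [← map_commutatorElement, hC] at h1
    exact hm h1
  · intro hp u hu
    have h1 := h.powU hp _ (mem_map_of_mem f hu)
    rw [← map_pow] at h1
    exact hf (by rw [h1, map_one])
  · intro t ht
    have h1 := h.powX _ (mem_map_of_mem f ht)
    rw [← map_pow] at h1
    exact hf (by rw [h1, map_one])
  · intro t ht t' ht'
    exact hf (by rw [map_mul, map_mul]; exact h.commX _ (mem_map_of_mem f ht) _ (mem_map_of_mem f ht'))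
  · have h1 := h.idxQ
    rwa [relIndex_map_map_of_injective _ _ hf] at h1
  · intro t ht u hu
    have h1 := h.hXQ _ (mem_map_of_mem f ht) _ (mem_map_of_mem f hu)
    rw [← map_commutatorElement, ← map_inf_centralizer' hf] at h1
    exact hm h1
  · intro t ht u hu
    have h1 := h.hXU _ (mem_map_of_mem f ht) _ (mem_map_of_mem f hu)
    rw [← map_commutatorElement, ← Subgroup.map_inf _ _ _ hf] at h1
    exact hm h1
  · rcases h.alt with ⟨h1, h2⟩ | ⟨h1, h2⟩
    · exact Or.inl ⟨map_injective hf h1, map_injective hf h2⟩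
    · refine Or.inr ⟨h1, fun hall => h2 ?_⟩
      rintro _ ⟨g, hg, rfl⟩
      obtain ⟨t, ht, htu⟩ := hall g hg
      refine ⟨f t, mem_map_of_mem f ht, ?_⟩
      rintro _ ⟨u, hu, rfl⟩
      rw [← map_inv, ← map_mul, ← map_commutatorElement]
      exact mem_map_of_mem f (htu u hu)

variable [Finite G] {p : ℕ} [hp : Fact p.Prime] {F : Type} [Field F] [Fintype F] {n : ℕ}
variable {S D V : Subgroup G} {ψ : G →* PSLtwo F}

theorem Setup.exists_shape (s : Setup p S D n ψ) (m : SmallModule p S D n V)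
    (homega : ∀ z ∈ S, z ∈ centralizer (S : Set G) → z ^ p = 1 → z ∈ V)
    (hd : ∀ X : Subgroup G, X ≤ S → X.Normal → (X.subgroupOf S).Characteristic → X = ⊥) :
    ∃ U Q X : Subgroup G, Shape p (p ^ n) ⊤ S D V U Q X := by
  set ι := MulAction.toPermHom G G
  have hι : Function.Injective ι := fun a b h => by
    simpa [ι] using congrArg (fun σ : Equiv.Perm G => σ 1) h
  obtain ⟨U, Q, X, h⟩ := RankOnePush.exists_shape hp.out ((s.toLocal m homega).map hι)
    fun Y hY hG hN => Setup.hinv_perm hd hY hG hN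
  exact h.exists_comap hι s.le_S

end Cfsg.Agent.Lib.RankOnePush
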