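import Mathlib
/-!
Alternating forms invariant under squares of scalars, and the projection on fixed points of an
involution on an abelian group of odd exponent.
-/

set_option autoImplicit false

namespace Cfsg.Agent.Lib.RankOnePush

/-- An alternating biadditive map invariant under squares of scalars vanishes. -/
theorem form_eq_zero_of_square_invariant {F A : Type*} [Field F] [Fintype F] [AddCommGroup A]
    {p n : ℕ} [hp : Fact p.Prime] (hF : Fintype.card F = p ^ n) (hp5 : 5 ≤ p) [CharP F p]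
    (β : F → F → A) (hl : ∀ a a' b, β (a + a') b = β a b + β a' b)
    (hr : ∀ a b b', β a (b + b') = β a b + β a b') (halt : ∀ a, β a a = 0)
    (hinv : ∀ (u : F), u ≠ 0 → ∀ a b, β (u ^ 2 * a) (u ^ 2 * b) = β a b) :
    ∀ a b, β a b = 0 := by
  classical
  rcases Nat.lt_or_ge n 2 with hn | hn
  · have hcard : Fintype.card F = p := by
      have : n ≠ 0 := by
        rintro rfl
        exact absurd hF (by simpa using (Fintype.one_lt_card (α := F)).ne')
      rw [hF, show n = 1 by omega, pow_one]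
    have hbij : Function.Bijective (ZMod.castHom (dvd_refl p) F) :=
      (Fintype.bijective_iff_injective_and_card _).2
        ⟨RingHom.injective _, by rw [ZMod.card, hcard]⟩
    intro a b
    obtain ⟨i, rfl⟩ := hbij.2 a
    obtain ⟨j, rfl⟩ := hbij.2 b
    obtain ⟨i, rfl⟩ := ZMod.natCast_zmod_surjective i
    obtain ⟨j, rfl⟩ := ZMod.natCast_zmod_surjective j
    rw [map_natCast, map_natCast]
    let f : F →+ F →+ A :=
      AddMonoidHom.mk' (fun a => AddMonoidHom.mk' (β a) (hr a))
        (fun a a' => AddMonoidHom.ext (hl a a'))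
    have : f (i • (1 : F)) (j • (1 : F)) = i • j • f 1 1 := by
      rw [map_nsmul f, AddMonoidHom.nsmul_apply, map_nsmul]
    simpa [f, nsmul_eq_mul, halt] using this
  · have hbig : 13 < Fintype.card F := by
      rw [hF]
      calc 13 < 5 ^ 2 := by norm_num
        _ ≤ p ^ 2 := Nat.pow_le_pow_left hp5 2
        _ ≤ p ^ n := Nat.pow_le_pow_right hp.out.pos hn
    open Polynomial in
    let f : F[X] := X * (X ^ 4 - 1) *
      ((X ^ 2 - 1) ^ 4 + C 4 * X ^ 2 * (X ^ 2 - 1) ^ 2 + C 16 * X ^ 4)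
    have hfd : f.natDegree ≤ 13 := by
      simp only [f]
      compute_degree
    have hf0 : f ≠ 0 := by
      open Polynomial in
      refine mul_ne_zero (mul_ne_zero X_ne_zero ?_) ?_
      · intro h
        have := congrArg (Polynomial.eval (0 : F)) h
        simp at this
      · intro h
        have := congrArg (Polynomial.eval (0 : F)) h
        simp at this
    obtain ⟨s, hs⟩ : ∃ s : F, f.eval s ≠ 0 := by
      by_contra! hall
      exact hf0 (Polynomial.eq_zero_of_natDegree_lt_card_of_eval_eq_zero f Function.injective_id hall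
        (hfd.trans_lt hbig))
    simp only [f, Polynomial.eval_mul, Polynomial.eval_sub, Polynomial.eval_add, Polynomial.eval_pow,
      Polynomial.eval_X, Polynomial.eval_one, Polynomial.eval_C, ne_eq, mul_eq_zero, not_or] at hs
    obtain ⟨⟨hs0, hs4⟩, hs8⟩ := hs
    have h2 : (2 : F) ≠ 0 := by
      intro h0
      have := (CharP.cast_eq_zero_iff F p 2).1 (by exact_mod_cast h0)
      exact absurd (Nat.le_of_dvd two_pos this) (by omega)
    have h4 : s ^ 2 - 1 ≠ 0 ∧ s ^ 2 + 1 ≠ 0 := by
      refine ⟨fun h => hs4 ?_, fun h => hs4 ?_⟩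
      · linear_combination (s ^ 2 + 1) * h
      · linear_combination (s ^ 2 - 1) * h
    have hs8' : (s ^ 2 - 1) ^ 4 + 4 * s ^ 2 * (s ^ 2 - 1) ^ 2 + 16 * s ^ 4 ≠ 0 := hs8
    set u := (s ^ 2 - 1) / (2 * s) with hu
    set v := (s ^ 2 + 1) / (2 * s) with hv
    have hd : 2 * s ≠ 0 := mul_ne_zero h2 hs0
    have hu0 : u ≠ 0 := div_ne_zero h4.1 hd
    have hv0 : v ≠ 0 := div_ne_zero h4.2 hd
    have huv : v ^ 2 = u ^ 2 + 1 := by rw [hu, hv]; field_simp; ring
    have hadj : ∀ w : F, w ≠ 0 → ∀ a b, β (w ^ 2 * a) b = β a ((w ^ 2)⁻¹ * b) := fun w hw a b => by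
      conv_lhs => rw [← mul_inv_cancel_left₀ (pow_ne_zero 2 hw) b]
      exact hinv w hw a _
    set κ := (u ^ 2)⁻¹ + 1 - (v ^ 2)⁻¹ with hκ
    have hκ0 : κ ≠ 0 := by
      intro h0
      apply hs8'
      have hv' : u ^ 2 + 1 ≠ 0 := huv ▸ pow_ne_zero 2 hv0
      have hu' := pow_ne_zero 2 hu0
      have h1 : (u ^ 2) ^ 2 + u ^ 2 + 1 = 0 := by
        rw [hκ, huv] at h0
        field_simp at h0
        linear_combination h0
      rw [hu] at h1
      field_simp at h1
      linear_combination h1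
    have key : ∀ a b, β a (κ * b) = 0 := fun a b => by
      have h := hl (u ^ 2 * a) a b
      rw [show u ^ 2 * a + a = v ^ 2 * a by rw [huv]; ring, hadj v hv0, hadj u hu0] at h
      let g : F →+ A := AddMonoidHom.mk' (β a) (hr a)
      have e : g (κ * b) = g ((u ^ 2)⁻¹ * b) + g b - g ((v ^ 2)⁻¹ * b) := by
        rw [hκ, sub_mul, add_mul, one_mul, map_sub, map_add]
      exact e.trans (sub_eq_zero.2 h.symm)
    intro a b
    simpa [mul_inv_cancel_left₀ hκ0] using key a (κ⁻¹ * b)

section Half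

variable {G : Type*} [Group G]

/-- The projection on the part fixed by `z`. -/
def halfFix (p : ℕ) (z c : G) : G := (c * (z * c * z⁻¹)) ^ ((p + 1) / 2)

theorem two_mul_half {p : ℕ} (hp : Odd p) : 2 * ((p + 1) / 2) = p + 1 := by
  obtain ⟨k, rfl⟩ := hp
  omega

variable {p : ℕ} {z : G}

theorem halfFix_of_fixed (hp : Odd p) {c : G} (hc : c ^ p = 1) (h : z * c = c * z) :
    halfFix p z c = c := by
  rw [halfFix, h, mul_inv_cancel_right, ← pow_two, ← pow_mul, two_mul_half hp, pow_succ, hc, one_mul]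

theorem halfFix_of_inverted {c : G} (h : z * c * z⁻¹ = c⁻¹) : halfFix p z c = 1 := by
  rw [halfFix, h, mul_inv_cancel, one_pow]

theorem halfFix_mul {a b : G} (h1 : Commute a b) (h2 : Commute (z * a * z⁻¹) b)
    (h3 : Commute a (z * b * z⁻¹)) :
    halfFix p z (a * b) = halfFix p z a * halfFix p z b := by
  have e : z * (a * b) * z⁻¹ = z * a * z⁻¹ * (z * b * z⁻¹) := by group
  have c6 : Commute (z * a * z⁻¹) (z * b * z⁻¹) :=
    (show z * a * z⁻¹ = MulAut.conj z a from rfl) ▸ (show z * b * z⁻¹ = MulAut.conj z b from rfl) ▸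
      h1.map (MulAut.conj z).toMonoidHom
  rw [halfFix, halfFix, halfFix, ← ((h1.mul_right h3).mul_left (h2.mul_right c6)).mul_pow, e]
  congr 1
  rw [mul_assoc a b, ← mul_assoc b, h2.symm.eq, mul_assoc (z * a * z⁻¹) b, ← mul_assoc]

theorem halfFix_one : halfFix p z 1 = 1 := by simp [halfFix]

theorem halfFix_inv {c : G} (h : Commute c (z * c * z⁻¹)) :
    halfFix p z c⁻¹ = (halfFix p z c)⁻¹ := by
  rw [halfFix, halfFix, ← inv_pow, show z * c⁻¹ * z⁻¹ = (z * c * z⁻¹)⁻¹ by group, ← mul_inv_rev,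
    h.eq]

theorem conj_halfFix (hz : z * z = 1) {c : G} (h : Commute c (z * c * z⁻¹)) :
    z * halfFix p z c * z⁻¹ = halfFix p z c := by
  have hzi : z⁻¹ = z := inv_eq_of_mul_eq_one_right hz
  rw [halfFix, ← conj_pow]
  congr 1
  conv_rhs => rw [h.eq]
  rw [hzi, show z * (c * (z * c * z)) * z = z * c * z * c * (z * z) by group, hz, mul_one]

theorem conj_eq_halfFix (hp : Odd p) {c : G} (hc : c ^ p = 1) (hc' : (z * c * z⁻¹) ^ p = 1)
    (h : Commute c (z * c * z⁻¹)) : z * c * z⁻¹ = halfFix p z c ^ 2 * c⁻¹ := by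
  rw [halfFix, ← pow_mul, mul_comm ((p + 1) / 2) 2, two_mul_half hp, pow_succ, h.mul_pow, hc, hc',
    one_mul, one_mul, h.eq, mul_inv_cancel_right]

theorem map_halfFix {H : Type*} [Group H] (φ : G →* H) (c : G) :
    φ (halfFix p z c) = halfFix p (φ z) (φ c) := by
  simp [halfFix]

end Half

end Cfsg.Agent.Lib.RankOnePush
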