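import Mathlib
import Cfsg.Agent.Lib.SL2.Basic
import Cfsg.Agent.Lib.Qd.Basic
import Cfsg.Prelude.Def_TwoFusion
import Cfsg.Agent.Lib.RankOnePush.SquareForm
/-!
A rank one group with an involution inverting the natural module and splitting off a complement
of the fixed part.
-/

set_option autoImplicit false
set_option linter.unusedSectionVars false

namespace Cfsg.Agent.Lib.RankOnePush

open Subgroup
open Cfsg.Agent.Lib.SL2 (SLtwo upper diag)
open scoped commutatorElement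

variable {G : Type*} [Group G] [Finite G] {p : ℕ} [hp : Fact p.Prime]
  {F : Type} [Field F] [Fintype F] {n : ℕ}

/-- The standing data. -/
structure OddSetting (p n : ℕ) (S L D A : Subgroup G) (z : G) (φ : G →* SLtwo F) : Prop where
  five : 5 ≤ p
  sylow : ∃ P : Sylow p G, (P : Subgroup G) = S
  card : Fintype.card F = p ^ n
  exp : ∀ x ∈ S, x ^ p = 1
  class2 : ∀ x ∈ S, ∀ y ∈ S, ∀ w ∈ S, ⁅x, y⁆ * w = w * ⁅x, y⁆
  inv : z * z = 1
  zS : ∀ x ∈ S, z * x * z⁻¹ ∈ S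
  ker : φ.ker = D
  DS : D ≤ S
  normalA : A.Normal
  AD : A ≤ D
  Ainv : ∀ a ∈ A, z * a * z⁻¹ = a⁻¹
  AcD : D ≤ centralizer (A : Set G)
  split : ∀ g : G, ∃ a ∈ A, ∃ c, z * c = c * z ∧ a * c = g
  AL : A ≤ L
  normalL : L.Normal
  genL : L ⊔ S = ⊤
  coprimeL : L = Cfsg.pResidual p G
  EL : ∀ e ∈ D, z * e = e * z → ∀ g ∈ L, g * e = e * g
  imS : ∀ x ∈ S, ∃ a, φ x = upper a
  preS : ∀ g a, φ g = upper a → g ∈ S
  onto : ∀ M, ∃ c ∈ L, z * c = c * z ∧ φ c = M

namespace OddSetting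

variable {S L D A : Subgroup G} {z : G} {φ : G →* SLtwo F} (o : OddSetting p n S L D A z φ)

include o

theorem odd : Odd p := by
  exact hp.out.odd_of_ne_two (by have := o.five; omega)

theorem comm_mem {x y : G} (hx : x ∈ S) (hy : y ∈ S) : ⁅x, y⁆ ∈ S :=
  S.mul_mem (S.mul_mem (S.mul_mem hx hy) (S.inv_mem hx)) (S.inv_mem hy)

theorem comm_mul_left {x x' y : G} (hx : x ∈ S) (hx' : x' ∈ S) (hy : y ∈ S) :
    ⁅x * x', y⁆ = ⁅x, y⁆ * ⁅x', y⁆ := by
  rw [show ⁅x * x', y⁆ = x * ⁅x', y⁆ * x⁻¹ * ⁅x, y⁆ by simp only [commutatorElement_def]; group,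
    ← o.class2 x' hx' y hy x hx, mul_inv_cancel_right,
    o.class2 x' hx' y hy _ (o.comm_mem hx hy)]

theorem comm_mul_right {x y y' : G} (hx : x ∈ S) (hy : y ∈ S) (hy' : y' ∈ S) :
    ⁅x, y * y'⁆ = ⁅x, y⁆ * ⁅x, y'⁆ := by
  rw [show ⁅x, y * y'⁆ = ⁅x, y⁆ * (y * ⁅x, y'⁆ * y⁻¹) by simp only [commutatorElement_def]; group,
    ← o.class2 x hx y' hy' y hy, mul_inv_cancel_right]

theorem eq_one_of_sq {x : G} (hx : x ∈ S) (h : x * x = 1) : x = 1 := by
  obtain ⟨k, hk⟩ := hp.out.odd_of_ne_two (by have := o.five; omega : p ≠ 2)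
  have := o.exp x hx
  rwa [hk, pow_succ, pow_mul, pow_two, h, one_pow, one_mul] at this

theorem fixed_of_comm {c : G} (hc : c ∈ A) (h : z * c = c * z) : c = 1 := by
  refine o.eq_one_of_sq (o.DS (o.AD hc)) ?_
  have e := o.Ainv c hc
  rw [h, mul_inv_cancel_right] at e
  calc c * c = c⁻¹ * c := by rw [← e]
    _ = 1 := inv_mul_cancel c

theorem split_unique {a a' c c' : G} (ha : a ∈ A) (ha' : a' ∈ A) (hc : z * c = c * z)
    (hc' : z * c' = c' * z) (h : a * c = a' * c') : a = a' ∧ c = c' := by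
  have e : a'⁻¹ * a = c' * c⁻¹ := by
    rw [show a'⁻¹ * a = a'⁻¹ * (a * c) * c⁻¹ by group, h]; group
  have h1 : a'⁻¹ * a = 1 := o.fixed_of_comm (A.mul_mem (A.inv_mem ha') ha)
    (e ▸ ((show Commute z c' from hc').mul_right (show Commute z c from hc).inv_right))
  have h2 : a = a' := (inv_mul_eq_one.1 h1).symm
  exact ⟨h2, mul_left_cancel (h2 ▸ h : a * c = a * c')⟩

/-- Every element of `S` is a product from `A`, the residual and the fixed part of `D`. -/
theorem decompS {x : G} (hx : x ∈ S) : ∃ a ∈ A, ∃ y, y ∈ L ∧ y ∈ S ∧ z * y = y * z ∧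
    ∃ e ∈ D, z * e = e * z ∧ a * y * e = x := by
  obtain ⟨a, ha, c, hc, rfl⟩ := o.split x
  obtain ⟨t, ht⟩ := o.imS _ hx
  obtain ⟨y, hyL, hy, hyφ⟩ := o.onto (upper t)
  have hae : φ a = 1 := by rw [← MonoidHom.mem_ker, o.ker]; exact o.AD ha
  rw [map_mul, hae, one_mul] at ht
  refine ⟨a, ha, y, hyL, o.preS _ _ hyφ, hy, y⁻¹ * c, ?_, ?_, by group⟩
  · rw [← o.ker, MonoidHom.mem_ker, map_mul, map_inv, hyφ, ht, inv_mul_cancel]
  · exact (show Commute z y from hy).inv_right.mul_right hc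

theorem mem_center_of {c : G} (hL : ∀ g ∈ L, g * c = c * g) (hS : ∀ g ∈ S, g * c = c * g) :
    c ∈ center G := by
  refine mem_center_iff.2 fun g => ?_
  have h : L ⊔ S ≤ centralizer ({c} : Set G) := sup_le
    (fun g hg => mem_centralizer_singleton_iff.2 (hL g hg))
    (fun g hg => mem_centralizer_singleton_iff.2 (hS g hg))
  exact mem_centralizer_singleton_iff.1 (h (o.genL ▸ mem_top g))

theorem upper_ker {g h : G} (e : φ g = φ h) : h⁻¹ * g ∈ D := by
  rw [← o.ker, MonoidHom.mem_ker, map_mul, map_inv, e, inv_mul_cancel]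

/-- The elements of `S` in the residual fixed by `z` commute. -/
theorem comm_P {y y' : G} (hy : y ∈ L) (hyS : y ∈ S) (hyz : z * y = y * z)
    (hy' : y' ∈ L) (hyS' : y' ∈ S) (hyz' : z * y' = y' * z) : ⁅y, y'⁆ = 1 := by
  haveI := o.normalL
  haveI : CharP F p := charP_of_card_eq_prime_pow o.card
  choose τ hτL hτz hτφ using fun a : F => o.onto (upper a)
  have hτS : ∀ a, τ a ∈ S := fun a => o.preS _ a (hτφ a)
  have hcent : ∀ a b, ⁅τ a, τ b⁆ ∈ center G := fun a b => by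
    refine o.mem_center_of (fun g hg => ?_) fun g hg => (o.class2 _ (hτS a) _ (hτS b) g hg).symm
    refine o.EL _ ?_ ?_ g hg
    · rw [← o.ker, MonoidHom.mem_ker, map_commutatorElement, hτφ, hτφ,
        commutatorElement_eq_one_iff_mul_comm, SL2.upper_mul, SL2.upper_mul, add_comm]
    · have ca : Commute z (τ a) := hτz a
      have cb : Commute z (τ b) := hτz b
      exact ((ca.mul_right cb).mul_right ca.inv_right).mul_right cb.inv_right
  have habs : ∀ x, x ∈ L → x ∈ S → z * x = x * z → ∀ a, φ x = upper a →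
      ∀ w ∈ L, w ∈ S → ⁅x, w⁆ = ⁅τ a, w⁆ ∧ ⁅w, x⁆ = ⁅w, τ a⁆ := by
    intro x hxL hxS hxz a hxφ w hwL hwS
    have hd : (τ a)⁻¹ * x ∈ D := o.upper_ker (hxφ.trans (hτφ a).symm)
    have hc : w * ((τ a)⁻¹ * x) = (τ a)⁻¹ * x * w := o.EL _ hd
      ((show Commute z (τ a) from hτz a).inv_right.mul_right hxz) w hwL
    have e1 : ⁅(τ a)⁻¹ * x, w⁆ = 1 := commutatorElement_eq_one_iff_mul_comm.2 hc.symm
    have e2 : ⁅w, (τ a)⁻¹ * x⁆ = 1 := commutatorElement_eq_one_iff_mul_comm.2 hc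
    constructor
    · conv_lhs => rw [← mul_inv_cancel_left (τ a) x]
      rw [o.comm_mul_left (hτS a) (o.DS hd) hwS, e1, mul_one]
    · conv_lhs => rw [← mul_inv_cancel_left (τ a) x]
      rw [o.comm_mul_right hwS (hτS a) (o.DS hd), e2, mul_one]
  letI : CommGroup (center G) :=
    { (inferInstance : Group (center G)) with
      mul_comm := fun a b => Subtype.ext ((mem_center_iff.1 b.2 a.1)) }
  let β : F → F → Additive (center G) := fun a b => Additive.ofMul ⟨⁅τ a, τ b⁆, hcent a b⟩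
  have hβ : ∀ a b, β a b = 0 := by
    refine form_eq_zero_of_square_invariant o.card o.five β ?_ ?_ ?_ ?_
    · intro a a' b
      refine Additive.toMul.injective (Subtype.ext ?_)
      show ⁅τ (a + a'), τ b⁆ = ⁅τ a, τ b⁆ * ⁅τ a', τ b⁆
      rw [← o.comm_mul_left (hτS a) (hτS a') (hτS b)]
      refine ((habs _ (mul_mem (hτL a) (hτL a')) (mul_mem (hτS a) (hτS a'))
        ((show Commute z (τ a) from hτz a).mul_right (hτz a')) _ ?_ _ (hτL b) (hτS b)).1).symm
      rw [map_mul, hτφ, hτφ, SL2.upper_mul]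
    · intro a b b'
      refine Additive.toMul.injective (Subtype.ext ?_)
      show ⁅τ a, τ (b + b')⁆ = ⁅τ a, τ b⁆ * ⁅τ a, τ b'⁆
      rw [← o.comm_mul_right (hτS a) (hτS b) (hτS b')]
      refine ((habs _ (mul_mem (hτL b) (hτL b')) (mul_mem (hτS b) (hτS b'))
        ((show Commute z (τ b) from hτz b).mul_right (hτz b')) _ ?_ _ (hτL a) (hτS a)).2).symm
      rw [map_mul, hτφ, hτφ, SL2.upper_mul]
    · intro a
      refine Additive.toMul.injective (Subtype.ext ?_)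
      exact commutatorElement_self _
    · intro u hu a b
      refine Additive.toMul.injective (Subtype.ext ?_)
      show ⁅τ (u ^ 2 * a), τ (u ^ 2 * b)⁆ = ⁅τ a, τ b⁆
      obtain ⟨c, hcL, hcz, hcφ⟩ := o.onto (diag (Units.mk0 u hu))
      have key : ∀ x : F, φ (c * τ x * c⁻¹) = upper (u ^ 2 * x) := fun x => by
        rw [map_mul, map_mul, map_inv, hcφ, hτφ, SL2.diag_conj_upper, Units.val_mk0]
      have hmem : ∀ x : F, c * τ x * c⁻¹ ∈ L ∧ c * τ x * c⁻¹ ∈ S ∧
          z * (c * τ x * c⁻¹) = c * τ x * c⁻¹ * z := fun x =>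
        ⟨o.normalL.conj_mem _ (hτL x) c, o.preS _ _ (key x),
          ((show Commute z c from hcz).mul_right (hτz x)).mul_right
            (show Commute z c from hcz).inv_right⟩
      obtain ⟨a1, a2, a3⟩ := hmem a
      obtain ⟨b1, b2, b3⟩ := hmem b
      calc ⁅τ (u ^ 2 * a), τ (u ^ 2 * b)⁆ = ⁅c * τ a * c⁻¹, τ (u ^ 2 * b)⁆ :=
            (habs _ a1 a2 a3 _ (key a) _ (hτL _) (hτS _)).1.symm
        _ = ⁅c * τ a * c⁻¹, c * τ b * c⁻¹⁆ := (habs _ b1 b2 b3 _ (key b) _ a1 a2).2.symm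
        _ = c * ⁅τ a, τ b⁆ * c⁻¹ := by simp only [commutatorElement_def]; group
        _ = ⁅τ a, τ b⁆ := by rw [mem_center_iff.1 (hcent a b) c, mul_inv_cancel_right]
  obtain ⟨a, ha⟩ := o.imS _ hyS
  obtain ⟨b, hb⟩ := o.imS _ hyS'
  rw [(habs _ hy hyS hyz a ha _ hy' hyS').1, (habs _ hy' hyS' hyz' b hb _ (hτL a) (hτS a)).2]
  exact congrArg (fun w : Additive (center G) => ((w.toMul : center G) : G)) (hβ a b)

theorem conj_commutator (x y : G) : z * ⁅x, y⁆ * z⁻¹ = ⁅z * x * z⁻¹, z * y * z⁻¹⁆ := by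
  simp only [commutatorElement_def]; group

theorem comm_S' {c : G} (hc : c ∈ ⁅S, S⁆) : c ∈ S ∧ ∀ w ∈ S, c * w = w * c := by
  refine ⟨S.commutator_le_self hc, ?_⟩
  have h : ⁅S, S⁆ ≤ centralizer (S : Set G) := commutator_le.2 fun x hx y hy =>
    mem_centralizer_iff.2 fun w hw => (o.class2 x hx y hy w hw).symm
  exact fun w hw => (mem_centralizer_iff.1 (h hc) w hw).symm

theorem pair {x x' : G} (hx : x ∈ S) (hx' : x' ∈ S) {a y e a' y' e' : G} (ha : a ∈ A) (hy : y ∈ L)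
    (hyS : y ∈ S) (hyz : z * y = y * z) (he : e ∈ D) (hez : z * e = e * z) (h : a * y * e = x)
    (ha' : a' ∈ A) (hy' : y' ∈ L)
    (hyS' : y' ∈ S) (hyz' : z * y' = y' * z) (he' : e' ∈ D) (hez' : z * e' = e' * z)
    (h' : a' * y' * e' = x') :
    ⁅e, x'⁆ = ⁅e, e'⁆ ∧ ⁅x, e'⁆ = ⁅e, e'⁆ ∧ halfFix p z ⁅x, x'⁆ = ⁅e, e'⁆ := by
  have haS := o.DS (o.AD ha)
  have haS' := o.DS (o.AD ha')
  have heS := o.DS he
  have heS' := o.DS he'
  have one : ∀ {u v : G}, u * v = v * u → ⁅u, v⁆ = 1 := commutatorElement_eq_one_iff_mul_comm.2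
  have c1 : ⁅e, a'⁆ = 1 := one (mem_centralizer_iff.1 (o.AcD he) a' ha').symm
  have c2 : ⁅a, e'⁆ = 1 := one (mem_centralizer_iff.1 (o.AcD he') a ha)
  have c3 : ⁅e, y'⁆ = 1 := one (o.EL e he hez y' hy').symm
  have c4 : ⁅y, e'⁆ = 1 := one (o.EL e' he' hez' y hy)
  have c5 : ⁅a, a'⁆ = 1 := one (mem_centralizer_iff.1 (o.AcD (o.AD ha')) a ha)
  have c6 := o.comm_P hy hyS hyz hy' hyS' hyz'
  have e1 : ⁅e, x'⁆ = ⁅e, e'⁆ := by
    rw [← h', o.comm_mul_right heS (mul_mem haS' hyS') heS', o.comm_mul_right heS haS' hyS', c1, c3,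
      one_mul, one_mul]
  have e2 : ⁅x, e'⁆ = ⁅e, e'⁆ := by
    rw [← h, o.comm_mul_left (mul_mem haS hyS) heS heS', o.comm_mul_left haS hyS heS', c2, c4,
      one_mul, one_mul]
  refine ⟨e1, e2, ?_⟩
  have hB : ⁅x, x'⁆ = ⁅a, y'⁆ * ⁅y, a'⁆ * ⁅e, e'⁆ := by
    rw [← h, o.comm_mul_left (mul_mem haS hyS) heS hx', e1, o.comm_mul_left haS hyS hx', ← h',
      o.comm_mul_right haS (mul_mem haS' hyS') heS', o.comm_mul_right haS haS' hyS',
      o.comm_mul_right hyS (mul_mem haS' hyS') heS', o.comm_mul_right hyS haS' hyS', c5, c2, c6, c4,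
      one_mul, mul_one, mul_one, mul_one]
  have hfix : ∀ {u : G}, z * u = u * z → z * u * z⁻¹ = u := fun hu => by
    rw [hu, mul_inv_cancel_right]
  have hinv : z * (⁅a, y'⁆ * ⁅y, a'⁆) * z⁻¹ = (⁅a, y'⁆ * ⁅y, a'⁆)⁻¹ := by
    rw [← conj_mul, conj_commutator o, conj_commutator o, o.Ainv a ha, o.Ainv a' ha', hfix hyz,
      hfix hyz']
    have i1 : ⁅a⁻¹, y'⁆ = ⁅a, y'⁆⁻¹ := eq_inv_of_mul_eq_one_left (by
      rw [← o.comm_mul_left (inv_mem haS) haS hyS', inv_mul_cancel, commutatorElement_one_left])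
    have i2 : ⁅y, a'⁻¹⁆ = ⁅y, a'⁆⁻¹ := eq_inv_of_mul_eq_one_left (by
      rw [← o.comm_mul_right hyS (inv_mem haS') haS', inv_mul_cancel, commutatorElement_one_right])
    rw [i1, i2, mul_inv_rev, ← mul_inv_rev, ← mul_inv_rev,
      o.class2 a haS y' hyS' _ (o.comm_mem hyS haS')]
  have hef : z * ⁅e, e'⁆ = ⁅e, e'⁆ * z := by
    have ca : Commute z e := hez
    have cb : Commute z e' := hez'
    exact ((ca.mul_right cb).mul_right ca.inv_right).mul_right cb.inv_right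
  set b := ⁅a, y'⁆ * ⁅y, a'⁆
  have hbS : b ∈ S := mul_mem (o.comm_mem haS hyS') (o.comm_mem hyS haS')
  have hcm : ∀ w ∈ S, Commute ⁅e, e'⁆ w := fun w hw => o.class2 e heS e' heS' w hw
  rw [hB, halfFix_mul (hcm b hbS).symm (hcm _ (o.zS b hbS)).symm
    (by rw [hfix hef]; exact (hcm b hbS).symm),
    halfFix_of_inverted hinv, halfFix_of_fixed o.odd (o.exp _ (o.comm_mem heS heS')) hef, one_mul]

/-- The partner map of the fixed projection. -/
theorem exists_partner : ∃ f : G → G, ∀ x ∈ S, f x ∈ S ∧ ∀ y ∈ S,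
    ⁅f x, y⁆ = halfFix p z ⁅x, y⁆ ∧ ⁅x, f y⁆ = halfFix p z ⁅x, y⁆ := by
  classical
  choose a ha y hy hyS hyz e he hez h using fun x : S => o.decompS x.2
  refine ⟨fun x => if hx : x ∈ S then e ⟨x, hx⟩ else 1, fun x hx => ?_⟩
  simp only [dif_pos hx]
  refine ⟨o.DS (he _), fun w hw => ?_⟩
  simp only [dif_pos hw]
  obtain ⟨e1, e2, e3⟩ := o.pair hx hw (ha ⟨x, hx⟩) (hy _) (hyS _) (hyz _) (he _) (hez _) (h _)
    (ha ⟨w, hw⟩) (hy _) (hyS _) (hyz _) (he _) (hez _) (h _)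
  exact ⟨e1.trans e3.symm, e2.trans e3.symm⟩

theorem halfFix_S' {c : G} (hc : c ∈ ⁅S, S⁆) : halfFix p z c ∈ center G := by
  let B : Subgroup G :=
    { carrier := {c | c ∈ ⁅S, S⁆ ∧ halfFix p z c ∈ center G}
      one_mem' := ⟨one_mem _, by rw [halfFix_one]; exact one_mem _⟩
      mul_mem' := fun {a b} ha hb => ⟨mul_mem ha.1 hb.1, by
        obtain ⟨haS, hac⟩ := o.comm_S' ha.1
        obtain ⟨hbS, hbc⟩ := o.comm_S' hb.1
        rw [halfFix_mul (hac b hbS) (hbc _ (o.zS a haS)).symm (hac _ (o.zS b hbS))]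
        exact mul_mem ha.2 hb.2⟩
      inv_mem' := fun {a} ha => ⟨inv_mem ha.1, by
        obtain ⟨haS, hac⟩ := o.comm_S' ha.1
        rw [halfFix_inv (hac _ (o.zS a haS))]
        exact inv_mem ha.2⟩ }
  suffices h : ⁅S, S⁆ ≤ B from (h hc).2
  refine commutator_le.2 fun x hx w hw => ⟨commutator_mem_commutator hx hw, ?_⟩
  obtain ⟨a, ha, y, hy, hyS, hyz, e, he, hez, h⟩ := o.decompS hx
  obtain ⟨a', ha', y', hy', hyS', hyz', e', he', hez', h'⟩ := o.decompS hw
  obtain ⟨e1, -, e3⟩ := o.pair hx hw ha hy hyS hyz he hez h ha' hy' hyS' hyz' he' hez' h'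
  rw [e3]
  refine o.mem_center_of (fun g hg => ?_) fun g hg => (o.class2 e (o.DS he) e' (o.DS he') g hg).symm
  have ca : Commute g e := o.EL e he hez g hg
  have cb : Commute g e' := o.EL e' he' hez' g hg
  exact ((ca.mul_right cb).mul_right ca.inv_right).mul_right cb.inv_right

theorem fixed_mem_center {c : G} (hc : c ∈ ⁅S, S⁆) (h : z * c = c * z) : c ∈ center G := by
  have := o.halfFix_S' hc
  rwa [halfFix_of_fixed o.odd (o.exp c (o.comm_S' hc).1) h] at this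

/-- With no fixed part in the derived group the group is a product. -/
theorem exists_product (hnat : Cfsg.IsNaturalSL2Module F A (⊤ : Subgroup G))
    (hcA : centralizer (A : Set G) = D)
    (hR : ∀ c ∈ ⁅S, S⁆, z * c = c * z → c = 1) :
    ∃ E : Subgroup G, Cfsg.IsInternalDirectProduct L E ⊤ ∧ Cfsg.IsElementaryAbelian p E ∧
      Nonempty (L ≃* Cfsg.qdOver F) := by
  classical
  haveI := o.normalA
  set E := D ⊓ centralizer ({z} : Set G)
  have hE : ∀ {e : G}, e ∈ E → e ∈ D ∧ z * e = e * z := fun he =>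
    ⟨he.1, (mem_centralizer_singleton_iff.1 he.2).symm⟩
  have habel : ∀ e ∈ E, ∀ e' ∈ E, e * e' = e' * e := fun e he e' he' => by
    rw [← commutatorElement_eq_one_iff_mul_comm]
    refine hR _ (commutator_mem_commutator (o.DS he.1) (o.DS he'.1)) ?_
    have ca : Commute z e := (hE he).2
    have cb : Commute z e' := (hE he').2
    exact ((ca.mul_right cb).mul_right ca.inv_right).mul_right cb.inv_right
  have hcen : ∀ e ∈ E, e ∈ center G := by
    intro e he
    refine o.mem_center_of (o.EL e he.1 (hE he).2) fun x hx => ?_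
    obtain ⟨a, ha, y, hy, -, -, e', he', hez', rfl⟩ := o.decompS hx
    have c1 : Commute a e := mem_centralizer_iff.1 (o.AcD he.1) a ha
    have c2 : Commute y e := o.EL e he.1 (hE he).2 y hy
    have c3 : Commute e' e := (habel e he e' ⟨he', mem_centralizer_singleton_iff.2 hez'.symm⟩).symm
    exact (c1.mul_left c2).mul_left c3
  -- transfer separates the fixed part from the residual
  have hint : L ⊓ E = ⊥ := by
    refine (eq_bot_iff_forall _).2 fun e he => ?_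
    refine hR e ?_ (hE he.2).2
    obtain ⟨P, hP⟩ := o.sylow
    let τ := MonoidHom.transfer (H := S) (Abelianization.of (G := S))
    have hpA : IsPGroup p (Abelianization S) :=
      (hP ▸ P.2 : IsPGroup p S).of_surjective Abelianization.of QuotientGroup.mk_surjective
    have hkill : τ e = 1 := by
      have hle : L ≤ τ.ker := by
        rw [o.coprimeL, Cfsg.pResidual, closure_le]
        intro g hg
        obtain ⟨k, hk⟩ := hpA (τ g)
        have h2 := Nat.dvd_gcd (orderOf_map_dvd τ g) (orderOf_dvd_of_pow_eq_one hk)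
        rw [((show (orderOf g).Coprime p from hg).pow_right k).gcd_eq_one, Nat.dvd_one,
          orderOf_eq_one_iff] at h2
        exact h2
      exact hle he.1
    have hkey : ∀ (k : ℕ) (g₀ : G), g₀⁻¹ * e ^ k * g₀ ∈ S → g₀⁻¹ * e ^ k * g₀ = e ^ k :=
      fun k g₀ _ => by
        rw [mul_assoc, ← mem_center_iff.1 (pow_mem (hcen e he.2) k) g₀, inv_mul_cancel_left]
    rw [show τ = MonoidHom.transfer (H := S) Abelianization.of from rfl,
      MonoidHom.transfer_eq_pow (H := S) Abelianization.of e hkey] at hkill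
    have hmem : e ^ S.index ∈ ⁅S, S⁆ := by
      have h1 := (QuotientGroup.eq_one_iff _).1 hkill
      have h2 := Subgroup.mem_map_of_mem S.subtype h1
      rwa [show commutator S = ⁅(⊤ : Subgroup S), ⊤⁆ from rfl, map_commutator,
        ← MonoidHom.range_eq_map, Subgroup.range_subtype] at h2
    have hcop : S.index.Coprime p :=
      ((hp.out.coprime_iff_not_dvd).2 (hP ▸ P.not_dvd_index)).symm
    obtain ⟨j, -, hj⟩ := Nat.exists_mul_mod_eq_one_of_coprime hcop hp.out.one_lt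
    have : e ^ (S.index * j) = e := by
      rw [← Nat.mod_add_div (S.index * j) p, hj, pow_add, pow_mul, o.exp e (o.DS he.2.1), one_pow,
        mul_one, pow_one]
    rw [← this, pow_mul]
    exact pow_mem hmem j
  refine ⟨E, ⟨le_top, le_top, fun l _ e he => mem_center_iff.1 (hcen e he) l, hint, ?_⟩,
    ⟨⟨⟨fun a b => Subtype.ext (habel a a.2 b b.2)⟩⟩, fun e he => o.exp e (o.DS he.1)⟩, ?_⟩
  · refine eq_top_iff.2 fun g _ => ?_
    obtain ⟨a, ha, c, hc, rfl⟩ := o.split g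
    obtain ⟨c', hc'L, hc'z, hc'φ⟩ := o.onto (φ c)
    have hd : c'⁻¹ * c ∈ E := ⟨o.upper_ker hc'φ.symm, mem_centralizer_singleton_iff.2
      ((show Commute z c' from hc'z).inv_right.mul_right hc).symm⟩
    rw [show a * c = a * c' * (c'⁻¹ * c) by group]
    exact mul_mem_sup (mul_mem (o.AL ha) hc'L) hd
  obtain ⟨-, ρ, ψ, hρ, hρk, hρψ⟩ := hnat
  have hρD : ∀ g : G, ρ ⟨g, mem_top g⟩ = 1 ↔ g ∈ D := fun g => by
    rw [← MonoidHom.mem_ker, hρk, mem_subgroupOf, hcA]
  choose a ha c hc hac using o.split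
  let r : G →* SLtwo F := ρ.comp (MonoidHom.codRestrict (MonoidHom.id G) ⊤ mem_top)
  let v : G → Fin 2 → F := fun g => ψ (Additive.ofMul ⟨a g, ha g⟩)
  have hrA : ∀ g, r (a g) = 1 := fun g => (hρD _).2 (o.AD (ha g))
  have hv : ∀ g g', v (g * g') = (r g).1.mulVec (v g') + v g := by
    intro g g'
    have hconj : c g * a g' * (c g)⁻¹ ∈ A := o.normalA.conj_mem _ (ha g') _
    obtain ⟨e, -⟩ := o.split_unique (ha (g * g')) (mul_mem (ha g) hconj) (hc _)
      ((show Commute z (c g) from hc g).mul_right (hc g'))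
      (by
        rw [hac]
        conv_lhs => rw [← hac g, ← hac g']
        group)
    obtain ⟨w, hw, hwψ⟩ := hρψ ⟨c g, mem_top _⟩ ⟨a g', ha g'⟩
    have hw' : w = ⟨c g * a g' * (c g)⁻¹, hconj⟩ := Subtype.ext hw
    have hr : r g = r (c g) := by
      conv_lhs => rw [← hac g]
      rw [map_mul, hrA, one_mul]
    show ψ _ = _
    rw [show (⟨a (g * g'), ha _⟩ : A) = ⟨a g, ha g⟩ * ⟨c g * a g' * (c g)⁻¹, hconj⟩ from
      Subtype.ext e, ofMul_mul, map_add, ← hw', hwψ, hr, add_comm]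
    rfl
  let Θ : G →* Cfsg.qdOver F := MonoidHom.mk' (fun g => Qd.mk (r g) (v g)) fun g g' => by
    rw [Qd.mk_mul, map_mul, hv]
  let Θ' : L →* Cfsg.qdOver F := Θ.comp L.subtype
  have hinjv : ∀ M N : SLtwo F, ∀ u w : Fin 2 → F, Qd.mk M u = Qd.mk N w → M = N ∧ u = w :=
    fun M N u w h => ⟨by simpa using congrArg Qd.block h, by simpa using congrArg Qd.vec h⟩
  refine ⟨MulEquiv.ofBijective Θ' ⟨(injective_iff_map_eq_one Θ').2 fun l hl => ?_, fun M => ?_⟩⟩
  · obtain ⟨h1, h2⟩ := hinjv _ _ _ _ (hl.trans Qd.mk_one_zero.symm)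
    have ha1 : a (l : G) = 1 := congrArg (fun u : Additive A => ((u.toMul : A) : G))
      (ψ.injective (h2.trans ψ.map_zero.symm))
    have hz1 : z * (l : G) = (l : G) * z := by
      have e := hac (l : G)
      rw [ha1, one_mul] at e
      rw [← e]; exact hc _
    have hmem : (l : G) ∈ L ⊓ E :=
      ⟨l.2, (hρD _).1 h1, mem_centralizer_singleton_iff.2 hz1.symm⟩
    rw [hint, mem_bot] at hmem
    exact Subtype.ext hmem
  · obtain ⟨g0, hg0⟩ := hρ (Qd.block M)
    obtain ⟨a0, ha0, c0, hc0, hac0⟩ := o.split (g0 : G)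
    obtain ⟨c1, hc1L, hc1z, hc1φ⟩ := o.onto (φ c0)
    obtain ⟨w, hw⟩ := ψ.surjective (Qd.vec M)
    refine ⟨⟨(w.toMul : A) * c1, mul_mem (o.AL (w.toMul : A).2) hc1L⟩, ?_⟩
    show Qd.mk (r ((w.toMul : A) * c1)) (v ((w.toMul : A) * c1)) = M
    rw [← Qd.mk_block_vec M]
    congr 1
    · have h1 : r (c0⁻¹ * c1) = 1 := (hρD _).2 (o.upper_ker hc1φ)
      have h2 : r ((w.toMul : A) : G) = 1 := (hρD _).2 (o.AD (w.toMul : A).2)
      have h3 : r a0 = 1 := (hρD _).2 (o.AD ha0)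
      rw [map_mul, h2, one_mul, show c1 = c0 * (c0⁻¹ * c1) by group, map_mul, h1, mul_one, ← hg0]
      calc r c0 = r (a0 * c0) := by rw [map_mul, h3, one_mul]
        _ = _ := by rw [hac0]; rfl
    · obtain ⟨e, -⟩ := o.split_unique (ha _) (w.toMul : A).2 (hc _) hc1z (hac _)
      show ψ _ = _
      rw [← hw]
      exact congrArg ψ (Additive.toMul.injective (Subtype.ext e))

end OddSetting

end Cfsg.Agent.Lib.RankOnePush
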