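import Mathlib
import Cfsg.Agent.S2765
import Cfsg.Agent.Lib.RankOnePush.OddSplit
/-!
The pushing up situation for `p ≥ 5` gives the odd setting.
-/

set_option autoImplicit false

namespace Cfsg.Agent.Lib.RankOnePush

open Subgroup
open Cfsg.Agent.Lib.SL2 (SLtwo PSLtwo proj upper)
open scoped commutatorElement

theorem exists_oddSetting {G : Type*} [Group G] [Finite G] {p : ℕ} [hp : Fact p.Prime] (hp5 : 5 ≤ p)
    (S : Sylow p G) (hE₁ : centralizer (Cfsg.pCore p G : Set G) ≤ Cfsg.pCore p G)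
    (hE₂ : ∃! M : Subgroup G, IsCoatom M ∧ (S : Subgroup G) ≤ M) (K : Subgroup G) [K.Normal]
    (F : Type) [Field F] [Fintype F] (n : ℕ) (hn : 1 ≤ n) (hF : Fintype.card F = p ^ n)
    (hE₃ : Nonempty (G ⧸ K ≃* Matrix.ProjectiveSpecialLinearGroup (Fin 2) F))
    (hd : ∀ T : Subgroup ↥(S : Subgroup G), T ≠ ⊥ → T.Characteristic →
      ¬ (T.map (S : Subgroup G).subtype).Normal) :
    ∃ (A : Subgroup G) (z : G) (φ : G →* SLtwo F),
      OddSetting p n (S : Subgroup G) (Cfsg.pResidual p G) (Cfsg.pCore p G) A z φ ∧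
      Cfsg.IsNaturalSL2Module F A (⊤ : Subgroup G) ∧
      centralizer (A : Set G) = Cfsg.pCore p G := by
  classical
  obtain ⟨hl2, hexp⟩ : (S : Subgroup G).lowerCentralSeries 2 = ⊥ ∧
      Monoid.exponent ↥(S : Subgroup G) = p := by
    rcases S2765.result S hE₁ hE₂ K F n hn hF hE₃ hd with ⟨h2, -, -, h, -⟩ | ⟨h3, -⟩
    · exact ⟨h2, h (by omega)⟩
    · omega
  obtain ⟨M, ⟨hM, hSM⟩, huniq⟩ := hE₂
  obtain ⟨e⟩ := hE₃
  let ψ₀ : G →* PSLtwo F := e.toMonoidHom.comp (QuotientGroup.mk' K)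
  have d : PushingUp.Data p (S : Subgroup G) M n F ψ₀ :=
    ⟨⟨S, rfl⟩, hE₁, hM, hSM, fun L h1 h2 => huniq L ⟨h1, h2⟩,
      e.surjective.comp (QuotientGroup.mk'_surjective K), hF, by omega⟩
  obtain ⟨ψ, -, s⟩ := exists_setup d
  set D := Cfsg.pCore p G
  set T := (S : Subgroup G)
  set L := Cfsg.pResidual p G
  have hd' : ∀ X : Subgroup G, X ≤ T → X.Normal → (X.subgroupOf T).Characteristic → X = ⊥ := by
    intro X hXT hXn hXc
    by_contra hne
    refine hd (X.subgroupOf T) (fun hb => hne ?_) hXc ?_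
    · rw [subgroupOf_eq_bot, disjoint_iff, inf_eq_left.2 hXT] at hb
      exact hb
    · rw [map_subgroupOf_eq_of_le hXT]
      exact hXn
  have hTne : T ≠ ⊥ := fun hb => by
    have h := s.relIndex_D
    rw [hb, relIndex_bot_right] at h
    exact s.one_lt.ne h
  obtain ⟨m, -⟩ := exists_smallModule d hTne hd'
  set V := normalClosure (omegaZ p T : Set G)
  have homega : ∀ z ∈ T, z ∈ centralizer (T : Set G) → z ^ p = 1 → z ∈ V := fun z hz hc hzp =>
    subset_normalClosure (show z ∈ omegaZ p T from ⟨⟨hz, hc⟩, hzp⟩)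
  obtain ⟨U, Q, X, h⟩ := s.exists_shape m homega hd'
  haveI := m.normal
  haveI := s.normalD
  have hclass : ∀ x ∈ T, ∀ y ∈ T, ∀ w ∈ T, ⁅x, y⁆ * w = w * ⁅x, y⁆ := by
    intro x hx y hy w hw
    have h5 : ⁅⁅x, y⁆, w⁆ ∈ T.lowerCentralSeries 2 :=
      commutator_mem_commutator (commutator_mem_commutator hx hy) hw
    rw [hl2, mem_bot] at h5
    exact commutatorElement_eq_one_iff_mul_comm.1 h5
  have hpow : ∀ x ∈ T, x ^ p = 1 := fun x hx => by
    have := Monoid.pow_exponent_eq_one (⟨x, hx⟩ : T)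
    rw [hexp] at this
    simpa using congrArg Subtype.val this
  -- the first possibility of the shape holds
  have halt : U = V ∧ Q = D := by
    by_contra halt
    obtain ⟨hp2, hmove⟩ := h.alt.resolve_left halt
    let A : Subgroup G :=
      { carrier := {g | ∀ u ∈ U, ⁅g, u⁆ ∈ V}
        one_mem' := fun u _ => by rw [commutatorElement_one_left]; exact one_mem _
        mul_mem' := fun {a b} ha hb u hu => by
          rw [show ⁅a * b, u⁆ = a * ⁅b, u⁆ * a⁻¹ * ⁅a, u⁆ by simp only [commutatorElement_def]; group]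
          exact mul_mem (m.normal.conj_mem _ (hb u hu) a) (ha u hu)
        inv_mem' := fun {a} ha u hu => by
          rw [show ⁅a⁻¹, u⁆ = a⁻¹ * ⁅a, u⁆⁻¹ * a⁻¹⁻¹ by simp only [commutatorElement_def]; group]
          exact m.normal.conj_mem _ (inv_mem (ha u hu)) a⁻¹ }
    haveI hAn : A.Normal := ⟨fun a ha g u hu => by
      have hu' : g⁻¹ * u * g ∈ U := by simpa using h.normal.conj_mem u hu g⁻¹
      rw [show ⁅g * a * g⁻¹, u⁆ = g * ⁅a, g⁻¹ * u * g⁆ * g⁻¹ by
        simp only [commutatorElement_def]; group]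
      exact m.normal.conj_mem _ (ha _ hu') g⟩
    have hSA : T ≤ A := h.hXD ▸ sup_le (fun t ht u hu => by
      have hcU := (h.hXU t ht u (h.hUD hu)).1
      exact homega _ (s.le_S (h.hUD hcU))
        (mem_centralizer_iff.2 fun x hx => (hclass t (h.hXS ht) u (s.le_S (h.hUD hu)) x hx).symm)
        (h.powU hp2 _ hcU))
      (fun x hx u hu => by
      rw [← commutatorElement_inv]
      exact inv_mem (s.commU' m h hu hx).1)
    obtain ⟨w, -, hgen⟩ := s.exists_weyl
    have htop : ∀ g, g ∈ A := fun g => (hgen.ge.trans (sup_le hSA (by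
      rintro _ ⟨t, ht, rfl⟩
      exact hAn.conj_mem t (hSA ht) w))) (mem_top g)
    exact hmove fun g _ => ⟨1, one_mem _, fun u hu => by rw [inv_one, mul_one]; exact htop g u hu⟩
  obtain ⟨w, hw, hgen⟩ := s.exists_weyl
  obtain ⟨hcV, hncV⟩ := s.fixG_chief m h
  set C0 := fixG V
  haveI : C0.Normal := hcV.2.2.1
  obtain ⟨π, hπs, hπv, hπk, -, -, hnatV⟩ := s.chief_natural m (s.hact m h) hw hgen m.le hcV hncV
  have hres : ∀ g ∈ L, ∀ u ∈ D, ⁅g, u⁆ ∈ V := fun g hg =>
    s.residual_comm m h.hXD (fun t ht u hu => (h.hXQ t ht u (halt.2.symm ▸ hu)).1) hg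
  have hDp : IsPGroup p D := s.isPGroup.to_le s.le_S
  have hVp : IsPGroup p V := hDp.to_le m.le
  have hC0 : ∀ c ∈ C0, ∀ g : G, g * c = c * g := fun c hc g => mem_center_iff.1 hc.2 g
  have hker : π.ker = D := by
    refine le_antisymm (PSolvable.le_pCore ?_) fun x hx => (hπk x).2 fun u hu => ?_
    · intro g
      refine ⟨(orderOf (g : G)).factorization p, Subtype.ext ?_⟩
      rw [SubgroupClass.coe_pow, OneMemClass.coe_one]
      set g' := (g : G) ^ p ^ (orderOf (g : G)).factorization p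
      have hg' : (orderOf g').Coprime p := by
        rw [orderOf_pow_of_dvd (pow_ne_zero _ hp.out.ne_zero) (Nat.ordProj_dvd _ p)]
        exact (Nat.coprime_ordCompl hp.out (orderOf_pos (g : G)).ne').symm
      have hgL : g' ∈ L := subset_closure hg'
      have hfixV := fix_of_chain (U := V) (W := C0) (hVp.to_le inf_le_left) hg'
        ((hπk g').1 (pow_mem g.2 _)) (fun c hc => hC0 c hc g')
      have hfixD := fix_of_chain (U := D) (W := V) hVp hg' (hres g' hgL) hfixV
      have hgD : g' ∈ D := hE₁ (mem_centralizer_iff.2 fun u hu => (hfixD u hu).symm)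
      obtain ⟨j, hj⟩ := hDp ⟨g', hgD⟩
      have hj' : g' ^ p ^ j = 1 := by simpa using congrArg Subtype.val hj
      have hdvd := Nat.dvd_gcd (dvd_refl (orderOf g')) (orderOf_dvd_of_pow_eq_one hj')
      rwa [(hg'.pow_right j).gcd_eq_one, Nat.dvd_one, orderOf_eq_one_iff] at hdvd
    · rw [commutatorElement_eq_one_iff_mul_comm.2
        (mem_centralizer_iff.1 (m.comm hx) u hu).symm]
      exact one_mem _
  haveI : CharP F p := charP_of_card_eq_prime_pow s.card
  have hodd : Odd p := hp.out.odd_of_ne_two (by omega)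
  have hne : (-1 : SLtwo F) ≠ 1 := by
    intro e1
    have e2 : (-1 : F) = 1 := by simpa using congrArg (fun M : SLtwo F => M 0 0) e1
    have : ((2 : ℕ) : F) = 0 := by push_cast; linear_combination -e2
    exact absurd (Nat.le_of_dvd two_pos ((CharP.cast_eq_zero_iff F p 2).1 this)) (by omega)
  -- the central involution
  obtain ⟨z₀, hz₀⟩ := hπs (-1)
  have hz₀D : z₀ * z₀ ∈ D := by
    rw [← hker, MonoidHom.mem_ker, map_mul, hz₀, neg_one_mul, neg_neg]
  obtain ⟨k₀, hk₀⟩ := hDp ⟨_, hz₀D⟩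
  set z := z₀ ^ p ^ k₀
  have hzinv : z * z = 1 := by
    rw [← (Commute.refl z₀).mul_pow]
    simpa using congrArg Subtype.val hk₀
  have hπz : π z = -1 := by rw [map_pow, hz₀, Odd.neg_one_pow (hodd.pow)]
  have hzi : z⁻¹ = z := inv_eq_of_mul_eq_one_right hzinv
  have hzL : z ∈ L := by
    refine subset_closure ?_
    show (orderOf z).Coprime p
    refine Nat.Coprime.coprime_dvd_left (orderOf_dvd_of_pow_eq_one (by rwa [pow_two])) ?_
    exact (Nat.coprime_primes Nat.prime_two hp.out).2 (by omega)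
  have hzg : ∀ g : G, ⁅z, g⁆ ∈ D := fun g => by
    rw [← hker, MonoidHom.mem_ker, map_commutatorElement, hπz, commutatorElement_eq_one_iff_mul_comm,
      neg_one_mul, mul_neg_one]
  have hVc : ∀ {u v : G}, u ∈ V → v ∈ V → u * v = v * u := fun hu hv => s.vcomm m hu hv
  let A : Subgroup G :=
    { carrier := {v | v ∈ V ∧ z * v * z⁻¹ = v⁻¹}
      one_mem' := ⟨one_mem _, by simp⟩
      mul_mem' := fun {a b} ha hb => ⟨mul_mem ha.1 hb.1, by
        rw [← conj_mul, ha.2, hb.2, hVc ha.1 hb.1, mul_inv_rev]⟩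
      inv_mem' := fun {a} ha => ⟨inv_mem ha.1, by
        rw [show z * a⁻¹ * z⁻¹ = (z * a * z⁻¹)⁻¹ by group, ha.2]⟩ }
  let N0 : Subgroup G := V ⊓ centralizer ({z} : Set G)
  have hzD : ∀ g : G, g⁻¹ * z * g * z⁻¹ ∈ D := fun g => by
    rw [← hker, MonoidHom.mem_ker, map_mul, map_mul, map_mul, map_inv, map_inv, hπz]
    simp
  have htwist : ∀ (g : G), ∀ v ∈ V, z * (g * v * g⁻¹) * z⁻¹ = g * (z * v * z⁻¹) * g⁻¹ := by
    intro g v hv
    have hd := mem_centralizer_iff.1 (m.comm (hzD g)) (z * v * z⁻¹) (m.normal.conj_mem v hv z)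
    calc z * (g * v * g⁻¹) * z⁻¹
        = g * ((g⁻¹ * z * g * z⁻¹) * (z * v * z⁻¹) * (g⁻¹ * z * g * z⁻¹)⁻¹) * g⁻¹ := by group
      _ = _ := by rw [← hd, mul_inv_cancel_right]
  haveI hAn : A.Normal := ⟨fun a ha g => ⟨m.normal.conj_mem a ha.1 g, by
    rw [htwist g a ha.1, ha.2]; group⟩⟩
  haveI hN0n : N0.Normal := ⟨fun a ha g => ⟨m.normal.conj_mem a ha.1 g, by
    have h1 : z * a * z⁻¹ = a := by
      rw [← (mem_centralizer_singleton_iff.1 ha.2), mul_inv_cancel_right]
    have h2 := htwist g a ha.1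
    rw [h1, mul_inv_eq_iff_eq_mul] at h2
    exact mem_centralizer_singleton_iff.2 h2.symm⟩⟩
  have hN0 : N0 ≤ C0 := by
    rcases s.eq_fixG_or_eq m (N := N0 ⊔ C0) le_sup_right (sup_le inf_le_left inf_le_left) with
      e1 | e1
    · exact le_sup_left.trans e1.le
    · exfalso
      refine hne ?_
      rw [← hπz, ← MonoidHom.mem_ker, hπk]
      intro u hu
      have hle : N0 ⊔ C0 ≤ centralizer ({z} : Set G) := sup_le inf_le_right fun c hc =>
        mem_centralizer_singleton_iff.2 (hC0 c hc z).symm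
      have hu' : u ∈ N0 ⊔ C0 := e1.symm ▸ hu
      rw [commutatorElement_eq_one_iff_mul_comm.2 (mem_centralizer_singleton_iff.1 (hle hu')).symm]
      exact one_mem _
  have hAcD : D ≤ centralizer (A : Set G) := m.comm.trans (centralizer_le fun a ha => ha.1)
  obtain ⟨k, hk⟩ := hodd
  have hhalf : ∀ g : G, ⁅z, g⁆ ∈ A → ∃ a ∈ A, ∃ c, z * c = c * z ∧ a * c = g := by
    intro g hg
    set c := ⁅z, g⁆
    refine ⟨c ^ k, pow_mem hg k, (c ^ k)⁻¹ * g, ?_, mul_inv_cancel_left _ _⟩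
    have e1 : z * (c ^ k)⁻¹ * z⁻¹ = c ^ k := by
      rw [show z * (c ^ k)⁻¹ * z⁻¹ = (z * c ^ k * z⁻¹)⁻¹ by group, (pow_mem hg k : c ^ k ∈ A).2,
        inv_inv]
    have e2 : c ^ k * c = (c ^ k)⁻¹ := eq_inv_of_mul_eq_one_left (by
      rw [← pow_succ, ← pow_add, show k + 1 + k = p by omega, m.pow c hg.1])
    calc z * ((c ^ k)⁻¹ * g) = (z * (c ^ k)⁻¹ * z⁻¹) * ⁅z, g⁆ * g * z := by
          simp only [commutatorElement_def]; group
      _ = _ := by rw [e1, e2, mul_assoc]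
  have hcomA : ∀ g : G, z * ⁅z, g⁆ * z⁻¹ = ⁅z, g⁆⁻¹ := fun g => by
    simp only [commutatorElement_def, mul_inv_rev, inv_inv, hzi, mul_assoc]
    rw [← mul_assoc z z, hzinv, one_mul]
  have hDsplit : ∀ u ∈ D, ∃ a ∈ A, ∃ c, z * c = c * z ∧ a * c = u := fun u hu =>
    hhalf u ⟨hres z hzL u hu, hcomA u⟩
  have hsplit : ∀ g : G, ∃ a ∈ A, ∃ c, z * c = c * z ∧ a * c = g := by
    intro g
    refine hhalf g ?_
    obtain ⟨a, ha, c, hc, hac⟩ := hDsplit _ (hzg g)
    have hcD : c ∈ D := by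
      rw [show c = a⁻¹ * ⁅z, g⁆ by rw [← hac]; group]
      exact D.mul_mem (D.inv_mem (m.le ha.1)) (hzg g)
    have hi := hcomA g
    rw [← hac, ← conj_mul, ha.2, hc, mul_inv_cancel_right, mul_inv_rev] at hi
    have hca : c⁻¹ * a⁻¹ = a⁻¹ * c⁻¹ :=
      ((show Commute a c from mem_centralizer_iff.1 (hAcD hcD) a ha).inv_inv).symm.eq
    rw [hca] at hi
    have hcc : c * c = 1 := by
      nth_rewrite 1 [mul_left_cancel hi]
      exact inv_mul_cancel c
    have hc1 : c = 1 := by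
      have := hpow c (s.le_S hcD)
      rwa [hk, pow_succ, pow_mul, pow_two, hcc, one_pow, one_mul] at this
    rw [hc1, mul_one] at hac
    exact hac ▸ ha
  have hAL : A ≤ L := by
    intro a ha
    have hc : ⁅z, a⁆ ∈ L := by
      rw [commutatorElement_def, mul_assoc z, mul_assoc z]
      exact mul_mem hzL ((pResidual_normal (p := p)).conj_mem _ (inv_mem hzL) a)
    have e1 : a = ⁅z, a⁆ ^ k := by
      rw [commutatorElement_def, ha.2, ← pow_two, ← pow_mul, inv_pow,
        eq_inv_iff_mul_eq_one, ← pow_succ', ← hk, m.pow a ha.1]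
    rw [e1]
    exact pow_mem hc k
  have hEL : ∀ u ∈ D, z * u = u * z → ∀ g ∈ L, g * u = u * g := by
    intro u hu huz g hg
    suffices hle : L ≤ centralizer ({u} : Set G) from mem_centralizer_singleton_iff.1 (hle hg)
    refine (closure_le _).2 fun x hx => mem_centralizer_singleton_iff.2 ?_
    refine fix_of_chain (U := D ⊓ centralizer ({z} : Set G)) (W := C0) (hVp.to_le inf_le_left) hx ?_
      (fun c hc => hC0 c hc x) u ⟨hu, mem_centralizer_singleton_iff.2 huz.symm⟩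
    rintro v ⟨hv, hvz⟩
    refine hN0 ⟨hres x (subset_closure hx) v hv, ?_⟩
    obtain ⟨a, ha, c, hc, rfl⟩ := hsplit x
    have hcomm := mem_centralizer_iff.1 (hAcD (s.normalD.conj_mem v hv c)) a ha
    have e1 : ⁅a * c, v⁆ = ⁅c, v⁆ := by
      calc ⁅a * c, v⁆ = a * (c * v * c⁻¹) * a⁻¹ * v⁻¹ := by simp only [commutatorElement_def]; group
        _ = _ := by rw [hcomm, mul_inv_cancel_right]; rfl
    rw [e1]
    have h1 : Commute z c := hc
    have h2 : Commute z v := (mem_centralizer_singleton_iff.1 hvz).symm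
    exact mem_centralizer_singleton_iff.2
      (((h1.mul_right h2).mul_right h1.inv_right).mul_right h2.inv_right).symm.eq
  have hupper : ∀ t ∈ T, ∃ a, π t = upper a := fun t ht => by
    obtain ⟨a, ha⟩ := s.exists_upper ht
    exact ⟨a, (hπv t ht a ha).1⟩
  have hgenL : L ⊔ T = ⊤ := residual_sup_sylow S
  have hLtop : L.map π = ⊤ := by
    set N := L.map π
    haveI : N.Normal := (pResidual_normal (p := p) (G := G)).map π hπs
    refine top_le_iff.1 ?_
    have h2 : (2 : F) ≠ 0 ∧ (2 : F) ^ 2 ≠ 1 := by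
      constructor <;> intro e1
      · exact absurd (Nat.le_of_dvd two_pos ((CharP.cast_eq_zero_iff F p 2).1 (by exact_mod_cast e1)))
          (by omega)
      · have e3 : ((3 : ℕ) : F) = 0 := by push_cast; linear_combination e1
        exact absurd (Nat.le_of_dvd three_pos ((CharP.cast_eq_zero_iff F p 3).1 e3)) (by omega)
    rw [← Matrix.SL2.commutator_eq_top h2.1 h2.2, _root_.commutator_def, commutator_le]
    intro x _ y _
    have hdec : ∀ x : SLtwo F, ∃ a, (QuotientGroup.mk' N x) = QuotientGroup.mk' N (upper a) := by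
      intro x
      obtain ⟨g, rfl⟩ := hπs x
      obtain ⟨l, hl, t, ht, rfl⟩ := mem_sup_of_normal_left.1 (hgenL.symm ▸ mem_top g)
      obtain ⟨a, ha⟩ := hupper t ht
      refine ⟨a, ?_⟩
      rw [map_mul π, map_mul, show QuotientGroup.mk' N (π l) = 1 from
        (QuotientGroup.eq_one_iff _).2 (mem_map_of_mem π hl), one_mul, ha]
    obtain ⟨a, ha⟩ := hdec x
    obtain ⟨b, hb⟩ := hdec y
    refine (QuotientGroup.eq_one_iff _).1 ?_
    show QuotientGroup.mk' N ⁅x, y⁆ = 1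
    rw [map_commutatorElement, ha, hb, ← map_commutatorElement]
    rw [commutatorElement_eq_one_iff_mul_comm.2 (by rw [SL2.upper_mul, SL2.upper_mul, add_comm]),
      map_one]
  have honto : ∀ M, ∃ c ∈ L, z * c = c * z ∧ π c = M := by
    intro M
    obtain ⟨l, hl, hlM⟩ : M ∈ L.map π := hLtop ▸ mem_top M
    obtain ⟨a, ha, c, hc, rfl⟩ := hsplit l
    refine ⟨c, by simpa using mul_mem (inv_mem (hAL ha)) hl, hc, ?_⟩
    rw [← hlM, map_mul, show π a = 1 from MonoidHom.mem_ker.1 (hker.ge (m.le ha.1)), one_mul]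
  have hdecV : ∀ u ∈ V, ∃ a ∈ A, ∃ c ∈ N0, a * c = u := fun u hu => by
    obtain ⟨a, ha, c, hc, rfl⟩ := hDsplit u (m.le hu)
    exact ⟨a, ha, c, ⟨by simpa using mul_mem (inv_mem ha.1) hu,
      mem_centralizer_singleton_iff.2 hc.symm⟩, rfl⟩
  have hcA : centralizer (A : Set G) = D := by
    refine le_antisymm (fun g hg => hker.le ((hπk g).2 fun u hu => ?_)) hAcD
    obtain ⟨a, ha, c, hc, rfl⟩ := hdecV u hu
    have h1 : Commute g a := (mem_centralizer_iff.1 hg a ha).symm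
    rw [commutatorElement_eq_one_iff_mul_comm.2 (h1.mul_right (hC0 c (hN0 hc) g)).eq]
    exact one_mem _
  refine ⟨A, z, π, ⟨hp5, ⟨S, rfl⟩, s.card, hpow, hclass, hzinv, fun x hx => ?_, hker, s.le_S, hAn,
    fun a ha => m.le ha.1, fun a ha => ha.2, hAcD, hsplit, hAL, pResidual_normal, hgenL, rfl, hEL,
    hupper, fun g a hg => ?_, honto⟩, ?_, hcA⟩
  · rw [show z * x * z⁻¹ = ⁅z, x⁆ * x by simp only [commutatorElement_def]; group]
    exact T.mul_mem (s.le_S (hzg x)) hx
  · obtain ⟨t, ht, htψ⟩ := s.exists_mem a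
    have hd : t⁻¹ * g ∈ D := by
      rw [← hker, MonoidHom.mem_ker, map_mul, map_inv, hg, (hπv t ht a htψ).1, inv_mul_cancel]
    simpa using T.mul_mem ht (s.le_S hd)
  -- the natural module
  set q := QuotientGroup.mk' C0 with hqdef
  obtain ⟨-, ρ, ψV, hρs, hρk, hρψ⟩ := hnatV
  have hq : ∀ a : A, q (a : G) ∈ V.map q := fun a => mem_map_of_mem q a.2.1
  have hAC0 : ∀ a ∈ A, a ∈ C0 → a = 1 := fun a ha hac => by
    have e1 := ha.2
    rw [hC0 a hac z, mul_inv_cancel_right, eq_inv_iff_mul_eq_one] at e1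
    have := m.pow a ha.1
    rwa [hk, pow_succ, pow_mul, pow_two, e1, one_pow, one_mul] at this
  let θ : A →* V.map q := MonoidHom.mk' (fun a => ⟨q a, hq a⟩) fun a b => Subtype.ext (map_mul q _ _)
  have hθ : Function.Bijective θ := by
    refine ⟨(injective_iff_map_eq_one θ).2 fun a ha => Subtype.ext (hAC0 a a.2 ?_), ?_⟩
    · exact (QuotientGroup.eq_one_iff _).1 (congrArg Subtype.val ha)
    · rintro ⟨_, u, hu, rfl⟩
      obtain ⟨a, ha, c, hc, rfl⟩ := hdecV u hu
      refine ⟨⟨a, ha⟩, Subtype.ext ?_⟩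
      show q a = q (a * c)
      rw [map_mul, show q c = 1 from (QuotientGroup.eq_one_iff c).2 (hN0 hc), mul_one]
  let Θ : A ≃* V.map q := MulEquiv.ofBijective θ hθ
  let qT : (⊤ : Subgroup G) →* (⊤ : Subgroup (G ⧸ C0)) :=
    (q.comp (⊤ : Subgroup G).subtype).codRestrict ⊤ fun _ => mem_top _
  refine ⟨le_normalizer_of_normal, ρ.comp qT, (MulEquiv.toAdditive Θ).trans ψV,
    hρs.comp (fun x => ?_), ?_, fun l v => ?_⟩
  · obtain ⟨g, hg⟩ := QuotientGroup.mk'_surjective C0 (x : G ⧸ C0)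
    exact ⟨⟨g, mem_top g⟩, Subtype.ext hg⟩
  · ext x
    rw [MonoidHom.mem_ker, MonoidHom.comp_apply, ← MonoidHom.mem_ker, hρk, mem_subgroupOf,
      mem_subgroupOf, hcA, ← hker, hπk, mem_centralizer_iff]
    constructor
    · intro hx u hu
      refine (QuotientGroup.eq_one_iff _).1 ?_
      show q ⁅(x : G), u⁆ = 1
      rw [map_commutatorElement, commutatorElement_eq_one_iff_mul_comm]
      exact (hx _ (mem_map_of_mem q hu)).symm
    · rintro hx _ ⟨u, hu, rfl⟩
      have : q ⁅(x : G), u⁆ = 1 := (QuotientGroup.eq_one_iff _).2 (hx u hu)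
      rw [map_commutatorElement, commutatorElement_eq_one_iff_mul_comm] at this
      exact this.symm
  · obtain ⟨v', hv', hv'ψ⟩ := hρψ (qT l) (Θ v)
    refine ⟨⟨(l : G) * v * (l : G)⁻¹, hAn.conj_mem _ v.2 _⟩, rfl, ?_⟩
    refine Eq.trans (congrArg ψV (congrArg Additive.ofMul (Subtype.ext ?_))) hv'ψ
    rw [hv']
    show q ((l : G) * v * (l : G)⁻¹) = q l * q v * (q l)⁻¹
    rw [map_mul, map_mul, map_inv]

end Cfsg.Agent.Lib.RankOnePush
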